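import Groth.Prelude.Def_RootCh
import Mathlib.LinearAlgebra.RootSystem.BaseExists
import Mathlib.LinearAlgebra.RootSystem.Finite.CanonicalBilinear
import Mathlib.Data.Sign.Basic

set_option autoImplicit false
set_option linter.unusedSectionVars false
set_option linter.unusedVariables false

open Module RootCh

namespace Groth.Agent.Lib.Helper4.RootCh

variable {ι R M N : Type*} [Field R] [LinearOrder R] [IsStrictOrderedRing R]
  [AddCommGroup M] [Module R M] [AddCommGroup N] [Module R N]
  {P : RootPairing ι R M N} [P.IsRootSystem]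

lemma pair_fundWeight (b : P.Base) (j : b.support) (x : N) :
    P.toLinearMap (fundWeight b j) x = b.toCoweightBasis.coord j x := by
  have h : P.toLinearMap (P.toPerfPair.symm (b.toCoweightBasis.coord j)) =
      b.toCoweightBasis.coord j :=
    P.toLinearMap.apply_symm_toPerfPair_self _
  rw [fundWeight, h]

lemma eq_sum_pair_fundWeight (b : P.Base) (x : N) :
    x = ∑ j : b.support, P.toLinearMap (fundWeight b j) x • P.coroot j := by
  conv_lhs => rw [← b.toCoweightBasis.sum_repr x]
  refine Finset.sum_congr rfl fun j _ => ?_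
  rw [pair_fundWeight, Basis.coord_apply, b.toCoweightBasis_apply]

/-- pairing with an arbitrary `x` expands along the simple coroots -/
lemma pair_eq_sum (b : P.Base) (ξ : M) (x : N) :
    P.toLinearMap ξ x = ∑ j : b.support, P.toLinearMap (fundWeight b j) x * P.coroot' j ξ := by
  conv_lhs => rw [eq_sum_pair_fundWeight b x]
  rw [map_sum]
  refine Finset.sum_congr rfl fun j _ => ?_
  rw [map_smul, smul_eq_mul]
  rfl

lemma ext_of_coroot' (b : P.Base) {ξ ξ' : M}
    (h : ∀ i ∈ b.support, P.coroot' i ξ = P.coroot' i ξ') : ξ = ξ' := by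
  apply P.toPerfPair.injective
  apply b.toCoweightBasis.ext
  intro i
  rw [b.toCoweightBasis_apply]
  exact h i i.2

lemma eq_sum_fundWeight (b : P.Base) (ξ : M) :
    ξ = ∑ j : b.support, P.coroot' j ξ • fundWeight b j := by
  classical
  apply ext_of_coroot' b
  intro i hi
  rw [map_sum]
  rw [Finset.sum_eq_single ⟨i, hi⟩]
  · rw [map_smul, coroot'_fundWeight_self (i := ⟨i, hi⟩), smul_eq_mul, mul_one]
  · intro j _ hj
    rw [map_smul, coroot'_fundWeight_of_ne b j ⟨i, hi⟩ (Ne.symm hj), smul_zero]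
  · intro h; exact absurd (Finset.mem_univ _) h

/-! flip versions -/

lemma pair_fundCoweight (b : P.Base) (j : b.support) (ξ : M) :
    P.toLinearMap ξ (fundCoweight b j) = b.toWeightBasis.coord j ξ :=
  pair_fundWeight (P := P.flip) b.flip j ξ

lemma eq_sum_pair_fundCoweight (b : P.Base) (ξ : M) :
    ξ = ∑ j : b.support, P.toLinearMap ξ (fundCoweight b j) • P.root j :=
  eq_sum_pair_fundWeight (P := P.flip) b.flip ξ

lemma pair_eq_sum' (b : P.Base) (ξ : M) (x : N) :
    P.toLinearMap ξ x = ∑ j : b.support, P.toLinearMap ξ (fundCoweight b j) * P.root' j x :=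
  pair_eq_sum (P := P.flip) b.flip x ξ

lemma ext_of_root' (b : P.Base) {x x' : N}
    (h : ∀ i ∈ b.support, P.root' i x = P.root' i x') : x = x' :=
  ext_of_coroot' (P := P.flip) b.flip h

lemma eq_sum_fundCoweight (b : P.Base) (x : N) :
    x = ∑ j : b.support, P.root' j x • fundCoweight b j :=
  eq_sum_fundWeight (P := P.flip) b.flip x


lemma ext_of_forall_coroot' [Finite ι] {ξ ξ' : M} (h : ∀ i, P.coroot' i ξ = P.coroot' i ξ') : ξ = ξ' := by
  apply P.toPerfPair.injective
  apply LinearMap.ext_on_range (RootPairing.IsRootSystem.span_coroot_eq_top (P := P))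
  intro i
  exact h i

/-- A polarization: a linear map `M → N` carrying the pairing with coroots to a positive multiple
of the pairing with roots, symmetric and positive definite. -/
lemma exists_polarization [Finite ι] (P : RootPairing ι R M N) [P.IsRootSystem] :
    ∃ (Pol : M →ₗ[R] N) (q : ι → R), (∀ i, 0 < q i) ∧
      (∀ ξ k, P.root' k (Pol ξ) = q k * P.coroot' k ξ) ∧
      (∀ ξ, ξ ≠ 0 → 0 < P.toLinearMap ξ (Pol ξ)) ∧
      (∀ ξ ξ', P.toLinearMap ξ (Pol ξ') = P.toLinearMap ξ' (Pol ξ)) := by
  classical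
  let _ : Fintype ι := Fintype.ofFinite ι
  have hsymm : ∀ ξ ξ', P.RootForm ξ ξ' = P.RootForm ξ' ξ := fun ξ ξ' => by
    simp [RootPairing.rootForm_apply_apply, mul_comm]
  have hqpos : ∀ i, 0 < P.RootForm (P.root i) (P.root i) := fun i => by
    rw [RootPairing.rootForm_apply_apply]
    have h1 : P.coroot' i (P.root i) * P.coroot' i (P.root i) = 4 := by
      have : P.coroot' i (P.root i) = 2 := P.root_coroot_two i
      rw [this]; norm_num
    calc (0 : R) < 4 := by norm_num
      _ = P.coroot' i (P.root i) * P.coroot' i (P.root i) := h1.symm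
      _ ≤ _ := Finset.single_le_sum (f := fun j => P.coroot' j (P.root i) * P.coroot' j (P.root i))
          (fun j _ => mul_self_nonneg _) (Finset.mem_univ i)
  refine ⟨P.Polarization, fun i => P.RootForm (P.root i) (P.root i) / 2,
    fun i => half_pos (hqpos i), ?_, ?_, ?_⟩
  · intro ξ k
    have h1 : P.root' k (P.Polarization ξ) = P.RootForm ξ (P.root k) :=
      P.toLinearMap_apply_apply_Polarization ξ (P.root k)
    have h2 : P.toLinearMap ξ (P.Polarization (P.root k)) = P.RootForm (P.root k) ξ :=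
      P.toLinearMap_apply_apply_Polarization (P.root k) ξ
    have h3 := congrArg (P.toLinearMap ξ) (P.rootForm_self_smul_coroot k)
    rw [map_smul, map_nsmul, h2, smul_eq_mul, nsmul_eq_mul] at h3
    rw [h1, hsymm]
    have : P.toLinearMap ξ (P.coroot k) = P.coroot' k ξ := rfl
    rw [this] at h3
    push_cast at h3
    linarith
  · intro ξ hξ
    rw [P.toLinearMap_apply_apply_Polarization, RootPairing.rootForm_apply_apply]
    by_contra hcon
    push Not at hcon
    have hz : ∀ i ∈ Finset.univ, P.coroot' i ξ * P.coroot' i ξ = 0 :=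
      (Finset.sum_eq_zero_iff_of_nonneg (fun i _ => mul_self_nonneg _)).mp
        (le_antisymm hcon (Finset.sum_nonneg fun i _ => mul_self_nonneg _))
    apply hξ
    apply ext_of_forall_coroot' (P := P)
    intro i
    rw [map_zero]
    exact mul_self_eq_zero.mp (hz i (Finset.mem_univ i))
  · intro ξ ξ'
    rw [P.toLinearMap_apply_apply_Polarization, P.toLinearMap_apply_apply_Polarization, hsymm]


lemma root'_fundCoweight_of_sum (b : P.Base) (k : ι) (f : ι → ℤ)
    (hf : P.root k = ∑ j ∈ b.support, f j • P.root j) (j : b.support) :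
    P.root' k (fundCoweight b j) = (f j : R) := by
  classical
  have h1 : P.root' k (fundCoweight b j) = P.toLinearMap (P.root k) (fundCoweight b j) := rfl
  rw [h1, hf, map_sum, LinearMap.sum_apply, Finset.sum_eq_single j.1]
  · rw [map_zsmul, LinearMap.smul_apply]
    have : P.toLinearMap (P.root j.1) (fundCoweight b j) = 1 := root'_fundCoweight_self b j
    rw [this]; simp
  · intro i hi hij
    rw [map_zsmul, LinearMap.smul_apply]
    have : P.toLinearMap (P.root i) (fundCoweight b j) = 0 :=
      root'_fundCoweight_of_ne b j ⟨i, hi⟩ (fun h => hij (congrArg Subtype.val h))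
    rw [this]; simp
  · intro h; exact absurd j.2 h

lemma exists_int_root'_fundCoweight (b : P.Base) (k : ι) :
    ∃ f : ι → ℤ, (∀ j : b.support, P.root' k (fundCoweight b j) = (f j : R)) ∧
      ((b.IsPos k ∧ ∀ j, 0 ≤ f j) ∨ (¬ b.IsPos k ∧ ∀ j, f j ≤ 0)) := by
  obtain ⟨f, hf₀, hf₁, hf₂⟩ := b.exists_root_eq_sum_int k
  refine ⟨f, root'_fundCoweight_of_sum b k f hf₂, ?_⟩
  have hh := RootPairing.Base.height_eq_sum hf₂
  have hne := b.height_ne_zero k
  rcases hf₁ with h | h
  · left
    refine ⟨?_, fun j => h.le j⟩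
    rw [RootPairing.Base.isPos_iff]
    have : 0 ≤ b.height k := by rw [hh]; exact Finset.sum_nonneg fun j _ => h.le j
    omega
  · right
    refine ⟨?_, fun j => h.le j⟩
    rw [RootPairing.Base.isPos_iff]
    have : b.height k ≤ 0 := by rw [hh]; exact Finset.sum_nonpos fun j _ => h.le j
    omega


lemma coroot'_fundWeight_of_sum (b : P.Base) (k : ι) (g : ι → ℤ)
    (hg : P.coroot k = ∑ j ∈ b.support, g j • P.coroot j) (j : b.support) :
    P.coroot' k (fundWeight b j) = (g j : R) :=
  root'_fundCoweight_of_sum (P := P.flip) b.flip k g hg j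

lemma exists_int_coroot'_fundWeight (b : P.Base) (k : ι) (j : b.support) :
    ∃ z : ℤ, P.coroot' k (fundWeight b j) = (z : R) := by
  obtain ⟨g, -, -, hg⟩ := b.flip.exists_root_eq_sum_int k
  exact ⟨g j, coroot'_fundWeight_of_sum b k g hg j⟩

section Pol

variable [Finite ι]

/-- a fixed polarization -/
noncomputable def pol (P : RootPairing ι R M N) [P.IsRootSystem] : M →ₗ[R] N :=
  (exists_polarization P).choose

/-- the positive scalars of the fixed polarization -/
noncomputable def polq (P : RootPairing ι R M N) [P.IsRootSystem] : ι → R :=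
  (exists_polarization P).choose_spec.choose

lemma polq_pos (i : ι) : 0 < polq P i :=
  (exists_polarization P).choose_spec.choose_spec.1 i

lemma root'_pol (ξ : M) (k : ι) : P.root' k (pol P ξ) = polq P k * P.coroot' k ξ :=
  (exists_polarization P).choose_spec.choose_spec.2.1 ξ k

lemma pair_pol_pos {ξ : M} (h : ξ ≠ 0) : 0 < P.toLinearMap ξ (pol P ξ) :=
  (exists_polarization P).choose_spec.choose_spec.2.2.1 ξ h

lemma pair_pol_symm (ξ ξ' : M) : P.toLinearMap ξ (pol P ξ') = P.toLinearMap ξ' (pol P ξ) :=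
  (exists_polarization P).choose_spec.choose_spec.2.2.2 ξ ξ'

lemma pol_injective : Function.Injective (pol P) := by
  rw [← LinearMap.ker_eq_bot, LinearMap.ker_eq_bot']
  intro ξ h
  by_contra hne
  have := pair_pol_pos (P := P) hne
  rw [h, map_zero] at this
  exact lt_irrefl _ this

lemma pol_fundWeight (b : P.Base) (j : b.support) :
    pol P (fundWeight b j) = polq P j • fundCoweight b j := by
  classical
  apply ext_of_root' b
  intro i hi
  rw [root'_pol, map_smul, smul_eq_mul]
  by_cases h : (⟨i, hi⟩ : b.support) = j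
  · subst h
    rw [coroot'_fundWeight_self (i := ⟨i, hi⟩), root'_fundCoweight_self (i := ⟨i, hi⟩)]
  · rw [coroot'_fundWeight_of_ne b j ⟨i, hi⟩ h, root'_fundCoweight_of_ne b j ⟨i, hi⟩ h]
    simp

/-- the coefficient relation between coroot and root expansions -/
lemma coeff_relation (b : P.Base) (k : ι) (j : b.support) :
    polq P k * P.coroot' k (fundWeight b j) = polq P j * P.root' k (fundCoweight b j) := by
  rw [← root'_pol, pol_fundWeight, map_smul, smul_eq_mul]

lemma sgnVec_fundWeight (b : P.Base) (j : b.support) :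
    sgnVec P (fundWeight b j) = cosgnVec P (fundCoweight b j) := by
  funext k
  have h := coeff_relation b k j
  have hk := polq_pos (P := P) k
  have hj := polq_pos (P := P) j
  simp only [sgnVec, cosgnVec]
  rcases lt_trichotomy (P.root' k (fundCoweight b j)) 0 with h1 | h1 | h1
  · rw [sign_neg h1]
    have : P.coroot' k (fundWeight b j) < 0 := by
      by_contra hc; push Not at hc
      have := mul_nonneg hk.le hc
      rw [h] at this
      have := mul_neg_of_pos_of_neg hj h1
      linarith
    rw [sign_neg this]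
  · rw [h1, mul_zero] at h
    have : P.coroot' k (fundWeight b j) = 0 := by
      rcases mul_eq_zero.mp h with h | h
      · exact absurd h hk.ne'
      · exact h
    rw [h1, this]
  · rw [sign_pos h1]
    have : 0 < P.coroot' k (fundWeight b j) := by
      by_contra hc; push Not at hc
      have := mul_nonpos_of_nonneg_of_nonpos hk.le hc
      rw [h] at this
      have := mul_pos hj h1
      linarith
    rw [sign_pos this]

lemma cosgnVec_pol (ξ : M) : cosgnVec P (pol P ξ) = sgnVec P ξ := by
  funext k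
  simp only [sgnVec, cosgnVec, root'_pol]
  rw [sign_mul, sign_pos (polq_pos k), one_mul]

end Pol

section Signs

variable [Finite ι] [P.IsCrystallographic]

lemma coroot'_fundWeight_nonneg {b : P.Base} {k : ι} (hk : b.IsPos k) (j : b.support) :
    0 ≤ P.coroot' k (fundWeight b j) := by
  obtain ⟨f, hf, h | h⟩ := exists_int_root'_fundCoweight b k
  · have h1 : 0 ≤ P.root' k (fundCoweight b j) := by rw [hf j]; exact_mod_cast h.2 j
    have h2 := coeff_relation b k j
    have hk' := polq_pos (P := P) k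
    have hj' := polq_pos (P := P) j
    by_contra hc; push Not at hc
    have := mul_neg_of_pos_of_neg hk' hc
    rw [h2] at this
    have := mul_nonneg hj'.le h1
    linarith
  · exact absurd hk h.1

lemma coroot'_fundWeight_nonpos {b : P.Base} {k : ι} (hk : ¬ b.IsPos k) (j : b.support) :
    P.coroot' k (fundWeight b j) ≤ 0 := by
  obtain ⟨f, hf, h | h⟩ := exists_int_root'_fundCoweight b k
  · exact absurd h.1 hk
  · have h1 : P.root' k (fundCoweight b j) ≤ 0 := by rw [hf j]; exact_mod_cast h.2 j
    have h2 := coeff_relation b k j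
    have hk' := polq_pos (P := P) k
    have hj' := polq_pos (P := P) j
    by_contra hc; push Not at hc
    have := mul_pos hk' hc
    rw [h2] at this
    have := mul_nonpos_of_nonneg_of_nonpos hj'.le h1
    linarith

lemma coroot'_eq_sum (b : P.Base) (k : ι) (ξ : M) :
    P.coroot' k ξ = ∑ j : b.support, P.coroot' k (fundWeight b j) * P.coroot' j ξ :=
  pair_eq_sum b ξ (P.coroot k)

lemma coroot_ne_zero (k : ι) : P.coroot k ≠ 0 := P.flip.ne_zero k

lemma exists_coroot'_fundWeight_ne_zero (b : P.Base) (k : ι) :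
    ∃ j : b.support, P.coroot' k (fundWeight b j) ≠ 0 := by
  by_contra hc; push Not at hc
  apply coroot_ne_zero (P := P) k
  rw [eq_sum_pair_fundWeight b (P.coroot k)]
  refine Finset.sum_eq_zero fun j _ => ?_
  have : P.toLinearMap (fundWeight b j) (P.coroot k) = 0 := hc j
  rw [this, zero_smul]

lemma coroot'_nonneg_of_mem_closedChamber {b : P.Base} {ξ : M} (hξ : ξ ∈ closedChamber b)
    {k : ι} (hk : b.IsPos k) : 0 ≤ P.coroot' k ξ := by
  rw [coroot'_eq_sum b]
  exact Finset.sum_nonneg fun j _ => mul_nonneg (coroot'_fundWeight_nonneg hk j) (hξ j j.2)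

lemma coroot'_nonpos_of_mem_closedChamber {b : P.Base} {ξ : M} (hξ : ξ ∈ closedChamber b)
    {k : ι} (hk : ¬ b.IsPos k) : P.coroot' k ξ ≤ 0 := by
  rw [coroot'_eq_sum b]
  exact Finset.sum_nonpos fun j _ =>
    mul_nonpos_of_nonpos_of_nonneg (coroot'_fundWeight_nonpos hk j) (hξ j j.2)

lemma coroot'_pos_of_mem_openChamber {b : P.Base} {ξ : M} (hξ : ξ ∈ openChamber b)
    {k : ι} (hk : b.IsPos k) : 0 < P.coroot' k ξ := by
  rw [coroot'_eq_sum b]
  obtain ⟨j, hj⟩ := exists_coroot'_fundWeight_ne_zero b k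
  refine Finset.sum_pos' (fun j _ => mul_nonneg (coroot'_fundWeight_nonneg hk j) (hξ j j.2).le)
    ⟨j, Finset.mem_univ _, mul_pos (lt_of_le_of_ne (coroot'_fundWeight_nonneg hk j) (Ne.symm hj))
      (hξ j j.2)⟩

lemma coroot'_neg_of_mem_openChamber {b : P.Base} {ξ : M} (hξ : ξ ∈ openChamber b)
    {k : ι} (hk : ¬ b.IsPos k) : P.coroot' k ξ < 0 := by
  rw [coroot'_eq_sum b]
  obtain ⟨j, hj⟩ := exists_coroot'_fundWeight_ne_zero b k
  refine Finset.sum_neg' (fun j _ =>
    mul_nonpos_of_nonpos_of_nonneg (coroot'_fundWeight_nonpos hk j) (hξ j j.2).le)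
    ⟨j, Finset.mem_univ _, mul_neg_of_neg_of_pos
      (lt_of_le_of_ne (coroot'_fundWeight_nonpos hk j) hj) (hξ j j.2)⟩

lemma isPos_iff_of_mem_openChamber {b : P.Base} {ξ : M} (hξ : ξ ∈ openChamber b) (k : ι) :
    b.IsPos k ↔ 0 < P.coroot' k ξ := by
  constructor
  · exact coroot'_pos_of_mem_openChamber hξ
  · intro h
    by_contra hk
    exact lt_asymm h (coroot'_neg_of_mem_openChamber hξ hk)

/-- the sum of the fundamental weights -/
noncomputable def rho (b : P.Base) : M := ∑ i : b.support, fundWeight b i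

lemma coroot'_rho (b : P.Base) (i : b.support) : P.coroot' i (rho b) = 1 := by
  classical
  rw [rho, map_sum, Finset.sum_eq_single i]
  · exact coroot'_fundWeight_self b i
  · intro j _ hj
    exact coroot'_fundWeight_of_ne b j i (Ne.symm hj)
  · intro h; exact absurd (Finset.mem_univ _) h

lemma rho_mem_openChamber (b : P.Base) : rho b ∈ openChamber b := by
  intro i hi
  have := coroot'_rho b ⟨i, hi⟩
  simp only at this
  rw [this]; exact one_pos

lemma fundWeight_mem_closedChamber (b : P.Base) (j : b.support) :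
    fundWeight b j ∈ closedChamber b := by
  classical
  intro i hi
  by_cases h : (⟨i, hi⟩ : b.support) = j
  · subst h
    rw [coroot'_fundWeight_self (i := ⟨i, hi⟩)]; exact zero_le_one
  · rw [coroot'_fundWeight_of_ne b j ⟨i, hi⟩ h]

lemma coroot'_reflectionPerm_self (k : ι) (ξ : M) :
    P.coroot' (P.reflectionPerm k k) ξ = - P.coroot' k ξ := by
  have : P.coroot (P.reflectionPerm k k) = - P.coroot k := by
    simp
  simp only [RootPairing.coroot', this, map_neg, LinearMap.neg_apply]

end Signs

section Perturb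

omit [AddCommGroup M] [Module R M] [AddCommGroup N] [Module R N] in
lemma exists_pos_forall_mul_abs_lt {κ : Type*} [Finite κ] (a c : κ → R) (ha : ∀ k, 0 < a k) :
    ∃ ε : R, 0 < ε ∧ ∀ k, ε * |c k| < a k := by
  classical
  have _ : Fintype κ := Fintype.ofFinite κ
  suffices h : ∀ s : Finset κ, ∃ ε : R, 0 < ε ∧ ∀ k ∈ s, ε * |c k| < a k by
    obtain ⟨ε, hε, h⟩ := h Finset.univ
    exact ⟨ε, hε, fun k => h k (Finset.mem_univ k)⟩
  intro s
  induction s using Finset.induction_on with
  | empty => exact ⟨1, one_pos, by simp⟩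
  | insert k₀ s _ ih =>
    obtain ⟨ε, hε, h⟩ := ih
    have hpos : 0 < a k₀ / (|c k₀| + 1) := div_pos (ha k₀) (by positivity)
    refine ⟨min ε (a k₀ / (|c k₀| + 1)), lt_min hε hpos, ?_⟩
    intro k hk
    rcases Finset.mem_insert.mp hk with rfl | hk
    · calc min ε (a k / (|c k| + 1)) * |c k| ≤ a k / (|c k| + 1) * |c k| :=
            mul_le_mul_of_nonneg_right (min_le_right _ _) (abs_nonneg _)
        _ < a k / (|c k| + 1) * (|c k| + 1) := by
            apply mul_lt_mul_of_pos_left _ hpos
            linarith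
        _ = a k := by field_simp
    · calc min ε (a k₀ / (|c k₀| + 1)) * |c k| ≤ ε * |c k| :=
            mul_le_mul_of_nonneg_right (min_le_left _ _) (abs_nonneg _)
        _ < a k := h k hk

variable [Finite ι]

/-- small perturbations preserve the strict signs -/
lemma exists_pos_perturb (ξ ξ₀ : M) :
    ∃ t : R, 0 < t ∧ ∀ k, (0 < P.coroot' k ξ → 0 < P.coroot' k (ξ + t • ξ₀)) ∧
      (P.coroot' k ξ < 0 → P.coroot' k (ξ + t • ξ₀) < 0) := by
  obtain ⟨t, ht, h⟩ := exists_pos_forall_mul_abs_lt
    (κ := {k : ι // P.coroot' k ξ ≠ 0}) (fun k => |P.coroot' k.1 ξ|) (fun k => P.coroot' k.1 ξ₀)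
    (fun k => abs_pos.mpr k.2)
  refine ⟨t, ht, fun k => ⟨fun hk => ?_, fun hk => ?_⟩⟩
  · have := h ⟨k, hk.ne'⟩
    simp only at this
    rw [abs_of_pos hk] at this
    rw [map_add, map_smul, smul_eq_mul]
    have h2 : -(t * |P.coroot' k ξ₀|) ≤ t * P.coroot' k ξ₀ := by
      rw [← mul_neg]; exact mul_le_mul_of_nonneg_left (neg_abs_le _) ht.le
    linarith
  · have := h ⟨k, hk.ne⟩
    simp only at this
    rw [abs_of_neg hk] at this
    rw [map_add, map_smul, smul_eq_mul]
    have h2 : t * P.coroot' k ξ₀ ≤ t * |P.coroot' k ξ₀| :=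
      mul_le_mul_of_nonneg_left (le_abs_self _) ht.le
    linarith

variable [P.IsCrystallographic] [P.IsReduced]

/-- a regular vector lies in the open chamber of some base -/
lemma exists_base_of_regular (ξ : M) (hξ : ∀ k, P.coroot' k ξ ≠ 0) :
    ∃ b : P.Base, ξ ∈ openChamber b := by
  let f : Dual R N := P.toLinearMap ξ
  have hf : ∀ i, f (P.flip.root i) ≠ 0 := fun i => hξ i
  have hli := P.flip.linearIndepOn_root_baseOf' (S := R) f hf
  let _ := P.flip.indexNeg
  have hsp : ∀ i, P.flip.root i ∈ AddSubmonoid.closure (P.flip.root '' IsAddIndecomposable.baseOf P.flip.root (f : N →+ R)) ∨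
      -P.flip.root i ∈ AddSubmonoid.closure (P.flip.root '' IsAddIndecomposable.baseOf P.flip.root (f : N →+ R)) :=
    fun i => IsAddIndecomposable.mem_or_neg_mem_closure_baseOf P.flip.root (f : N →+ R) i (hf i) (by simp)
  let b' : P.flip.Base := RootPairing.Base.mk' P.flip _ hli hsp
  refine ⟨b'.flip, ?_⟩
  intro i hi
  have hi' : i ∈ IsAddIndecomposable.baseOf P.flip.root (f : N →+ R) := by
    simpa [b', RootPairing.Base.mk'] using hi
  exact IsAddIndecomposable.baseOf_subset_pos P.flip.root (f : N →+ R) hi'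

end Perturb

section Chambers

variable [Finite ι] [P.IsCrystallographic] [P.IsReduced]

lemma rho_regular (b : P.Base) (k : ι) : P.coroot' k (rho b) ≠ 0 := by
  by_cases hk : b.IsPos k
  · exact (coroot'_pos_of_mem_openChamber (rho_mem_openChamber b) hk).ne'
  · exact (coroot'_neg_of_mem_openChamber (rho_mem_openChamber b) hk).ne

/-- every vector lies in the closed chamber of some base -/
lemma exists_base_mem_closedChamber (ξ : M) : ∃ b : P.Base, ξ ∈ closedChamber b := by
  obtain ⟨b₀⟩ := P.nonempty_base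
  obtain ⟨t, ht, h⟩ := exists_pos_perturb (P := P) ξ (rho b₀)
  have hreg : ∀ k, P.coroot' k (ξ + t • rho b₀) ≠ 0 := by
    intro k
    rcases lt_trichotomy (P.coroot' k ξ) 0 with h1 | h1 | h1
    · exact ((h k).2 h1).ne
    · rw [map_add, h1, zero_add, map_smul, smul_eq_mul]
      exact mul_ne_zero ht.ne' (rho_regular b₀ k)
    · exact ((h k).1 h1).ne'
  obtain ⟨b, hb⟩ := exists_base_of_regular _ hreg
  refine ⟨b, fun i hi => ?_⟩
  by_contra hc; push Not at hc
  exact lt_asymm (hb i hi) ((h i).2 hc)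

/-- perturbation inside the star of a vector -/
lemma exists_base_perturb (ξ ξ₀ : M) :
    ∃ t : R, 0 < t ∧ ∃ b : P.Base, ξ ∈ closedChamber b ∧ ξ + t • ξ₀ ∈ closedChamber b := by
  obtain ⟨t, ht, h⟩ := exists_pos_perturb (P := P) ξ ξ₀
  obtain ⟨b, hb⟩ := exists_base_mem_closedChamber (P := P) (ξ + t • ξ₀)
  refine ⟨t, ht, b, fun i hi => ?_, hb⟩
  by_contra hc; push Not at hc
  exact not_lt.mpr (hb i hi) ((h i).2 hc)

omit [P.IsRootSystem] [Finite ι] [P.IsCrystallographic] [P.IsReduced] in
lemma base_ext {b b' : P.Base} (h : b.support = b'.support) : b = b' := by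
  cases b; cases b'; cases h; rfl

omit [P.IsRootSystem] [P.IsCrystallographic] [P.IsReduced] in
instance : Finite P.Base :=
  Finite.of_injective (fun b : P.Base => b.support) fun _ _ h => base_ext h

end Chambers

section Facets

variable [Finite ι] [P.IsCrystallographic] [P.IsReduced]

omit [P.IsRootSystem] [Finite ι] [P.IsCrystallographic] [P.IsReduced] in
lemma sgnVec_apply (ξ : M) (k : ι) : sgnVec P ξ k = SignType.sign (P.coroot' k ξ) := rfl

omit [P.IsRootSystem] [Finite ι] [P.IsCrystallographic] [P.IsReduced] in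
lemma sgnVec_ne_neg_one_iff (ξ : M) (k : ι) : sgnVec P ξ k ≠ -1 ↔ 0 ≤ P.coroot' k ξ := by
  rw [sgnVec_apply, ne_eq, sign_eq_neg_one_iff, not_lt]

omit [P.IsRootSystem] [Finite ι] [P.IsCrystallographic] [P.IsReduced] in
lemma sgnVec_eq_one_iff (ξ : M) (k : ι) : sgnVec P ξ k = 1 ↔ 0 < P.coroot' k ξ := by
  rw [sgnVec_apply, sign_eq_one_iff]

omit [P.IsRootSystem] [Finite ι] [P.IsCrystallographic] [P.IsReduced] in
lemma sgnVec_eq_zero_iff (ξ : M) (k : ι) : sgnVec P ξ k = 0 ↔ P.coroot' k ξ = 0 := by
  rw [sgnVec_apply, sign_eq_zero_iff]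

lemma sgnVec_reflectionPerm_self (ξ : M) (k : ι) :
    sgnVec P ξ (P.reflectionPerm k k) = - sgnVec P ξ k := by
  rw [sgnVec_apply, sgnVec_apply, coroot'_reflectionPerm_self, Left.sign_neg]

lemma Facet.sgn_reflectionPerm_self (F : Facet P) (k : ι) :
    F.sgn (P.reflectionPerm k k) = - F.sgn k := by
  obtain ⟨ξ, hξ⟩ := F.exists_sgnVec_eq
  rw [← hξ, sgnVec_reflectionPerm_self]

omit [P.IsRootSystem] [Finite ι] [P.IsCrystallographic] [P.IsReduced] in
lemma mem_cham_iff (F : Facet P) (b : P.Base) :
    b ∈ F.cham ↔ ∀ i ∈ b.support, F.sgn i ≠ -1 := by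
  constructor
  · intro hb i hi
    obtain ⟨ξ, hξ⟩ := F.exists_sgnVec_eq
    have h1 : ξ ∈ closedChamber b := hb hξ
    rw [← hξ, sgnVec_ne_neg_one_iff]
    exact h1 i hi
  · intro h ξ hξ i hi
    have hξ' : sgnVec P ξ = F.sgn := hξ
    rw [← sgnVec_ne_neg_one_iff, hξ']
    exact h i hi

omit [P.IsRootSystem] [Finite ι] [P.IsCrystallographic] [P.IsReduced] in
lemma mem_cham_of_mem {F : Facet P} {b : P.Base} {ξ : M} (hξ : ξ ∈ F.carrier)
    (hb : ξ ∈ closedChamber b) : b ∈ F.cham := by
  rw [mem_cham_iff]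
  intro i hi
  have hξ' : sgnVec P ξ = F.sgn := hξ
  rw [← hξ', sgnVec_ne_neg_one_iff]
  exact hb i hi

lemma Facet.cham_nonempty (F : Facet P) : F.cham.Nonempty := by
  obtain ⟨ξ, hξ⟩ := F.exists_sgnVec_eq
  obtain ⟨b, hb⟩ := exists_base_mem_closedChamber (P := P) ξ
  exact ⟨b, mem_cham_of_mem (F := F) hξ hb⟩

omit [P.IsRootSystem] [Finite ι] [P.IsCrystallographic] [P.IsReduced] in
lemma closure_subset_closedChamber {F : Facet P} {b : P.Base} (hb : b ∈ F.cham) :
    F.closure ⊆ closedChamber b := by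
  intro ξ hξ i hi
  rw [← sgnVec_ne_neg_one_iff]
  rcases hξ i with h | h
  · rw [h]; decide
  · rw [h]; exact (mem_cham_iff F b).mp hb i hi

omit [P.IsRootSystem] [Finite ι] [P.IsCrystallographic] [P.IsReduced] in
lemma carrier_subset_closure (F : Facet P) : F.carrier ⊆ F.closure := by
  intro ξ hξ i
  right
  have hξ' : sgnVec P ξ = F.sgn := hξ
  rw [hξ']

end Facets

end Groth.Agent.Lib.Helper4.RootCh
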