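import Groth.Agent.Lib.Helper4.RootCh.Basics

set_option autoImplicit false
set_option linter.unusedSectionVars false
set_option linter.unusedVariables false

open Module RootCh

namespace Groth.Agent.Lib.Helper4.RootCh

variable {ι R M N : Type*} [Field R] [LinearOrder R] [IsStrictOrderedRing R]
  [AddCommGroup M] [Module R M] [AddCommGroup N] [Module R N]
  {P : RootPairing ι R M N} [P.IsRootSystem] [Finite ι] [P.IsCrystallographic] [P.IsReduced]

lemma coroot'_fundWeight_mul_eq_zero {b : P.Base} {ξ : M} (hξ : ξ ∈ closedChamber b) {k : ι}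
    (hk : P.coroot' k ξ = 0) (j : b.support) :
    P.coroot' k (fundWeight b j) * P.coroot' j ξ = 0 := by
  rw [coroot'_eq_sum b] at hk
  by_cases hp : b.IsPos k
  · exact (Finset.sum_eq_zero_iff_of_nonneg (fun j _ =>
      mul_nonneg (coroot'_fundWeight_nonneg hp j) (hξ j j.2))).mp hk j (Finset.mem_univ j)
  · exact (Finset.sum_eq_zero_iff_of_nonpos (fun j _ =>
      mul_nonpos_of_nonpos_of_nonneg (coroot'_fundWeight_nonpos hp j) (hξ j j.2))).mp hk j
        (Finset.mem_univ j)

omit [AddCommGroup M] [Module R M] [AddCommGroup N] [Module R N] in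
lemma int_unit_aux {c z : R} (hc : ∃ n : ℤ, c = n) (hz : ∃ m : ℤ, z = m) (h : c * z = 1)
    (hpos : 0 < c) : c = 1 := by
  obtain ⟨n, rfl⟩ := hc
  obtain ⟨m, rfl⟩ := hz
  have h1 : n * m = 1 := by exact_mod_cast h
  have h2 : 0 < n := by exact_mod_cast hpos
  rcases Int.mul_eq_one_iff_eq_one_or_neg_one.mp h1 with h3 | h3
  · rw [h3.1]; simp
  · omega

theorem fundWeight_eq_of_mem_closedChamber (b b' : P.Base) (i' : b'.support)
    (h : fundWeight b' i' ∈ closedChamber b) : ∃ j : b.support, fundWeight b' i' = fundWeight b j := by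
  classical
  set w := fundWeight b' i' with hw
  have h1 : ∃ j₀ : b.support, P.coroot' j₀ w ≠ 0 := by
    by_contra hc; push Not at hc
    have hw0 : w = 0 := ext_of_coroot' b (fun i hi => by rw [map_zero]; exact hc ⟨i, hi⟩)
    have := coroot'_fundWeight_self b' i'
    rw [← hw, hw0, map_zero] at this
    exact zero_ne_one this
  obtain ⟨j₀, hj₀⟩ := h1
  have h2 : ∀ l : b'.support, l ≠ i' → P.coroot' l (fundWeight b j₀) = 0 := by
    intro l hl
    have hz : P.coroot' l w = 0 := coroot'_fundWeight_of_ne b' i' l hl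
    rcases mul_eq_zero.mp (coroot'_fundWeight_mul_eq_zero h hz j₀) with h3 | h3
    · exact h3
    · exact absurd h3 hj₀
  set a := P.coroot' i' (fundWeight b j₀) with ha
  have h3 : fundWeight b j₀ = a • w := by
    apply ext_of_coroot' b'
    intro l hl
    rw [map_smul, smul_eq_mul]
    by_cases hli : (⟨l, hl⟩ : b'.support) = i'
    · subst hli
      rw [hw, coroot'_fundWeight_self (i := ⟨l, hl⟩), mul_one]
    · rw [h2 ⟨l, hl⟩ hli, hw, coroot'_fundWeight_of_ne b' i' ⟨l, hl⟩ hli, mul_zero]
  have h4 : a * P.coroot' j₀ w = 1 := by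
    have := congrArg (P.coroot' j₀) h3
    rw [coroot'_fundWeight_self, map_smul, smul_eq_mul] at this
    exact this.symm
  have hc1 : P.coroot' j₀ w = 1 := by
    apply int_unit_aux (exists_int_coroot'_fundWeight b' j₀ i') (exists_int_coroot'_fundWeight b i' j₀)
    · rw [mul_comm]; exact h4
    · exact lt_of_le_of_ne (h j₀ j₀.2) (Ne.symm hj₀)
  rw [hc1, mul_one] at h4
  exact ⟨j₀, by rw [h3, h4, one_smul]⟩

theorem baseCorners_eq (b : P.Base) : baseCorners b = Set.range (fundWeight b) := by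
  ext w
  constructor
  · rintro ⟨⟨b', i', rfl⟩, hw⟩
    obtain ⟨j, hj⟩ := fundWeight_eq_of_mem_closedChamber b b' i' hw
    exact ⟨j, hj.symm⟩
  · rintro ⟨j, rfl⟩
    exact ⟨⟨b, j, rfl⟩, fundWeight_mem_closedChamber b j⟩

end Groth.Agent.Lib.Helper4.RootCh
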