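import Groth.Agent.Lib.Helper4.RootCh.Reflect

set_option autoImplicit false
set_option linter.unusedSectionVars false
set_option linter.unusedVariables false

open Module RootCh

namespace Groth.Agent.Lib.Helper4.RootCh

variable {ι R M N : Type*} [Field R] [LinearOrder R] [IsStrictOrderedRing R]
  [AddCommGroup M] [Module R M] [AddCommGroup N] [Module R N]
  {P : RootPairing ι R M N} [P.IsRootSystem] [Finite ι] [P.IsCrystallographic] [P.IsReduced]

lemma root'_fundCoweight_nonneg {b : P.Base} {k : ι} (hk : b.IsPos k) (j : b.support) :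
    0 ≤ P.root' k (fundCoweight b j) := by
  obtain ⟨f, hf, h | h⟩ := exists_int_root'_fundCoweight b k
  · rw [hf j]; exact_mod_cast h.2 j
  · exact absurd hk h.1

lemma root'_fundCoweight_nonpos {b : P.Base} {k : ι} (hk : ¬ b.IsPos k) (j : b.support) :
    P.root' k (fundCoweight b j) ≤ 0 := by
  obtain ⟨f, hf, h | h⟩ := exists_int_root'_fundCoweight b k
  · exact absurd h.1 hk
  · rw [hf j]; exact_mod_cast h.2 j

lemma root'_fundCoweight_eq_zero_iff (b : P.Base) (k : ι) (j : b.support) :
    P.root' k (fundCoweight b j) = 0 ↔ P.coroot' k (fundWeight b j) = 0 := by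
  have h := coeff_relation b k j
  have hk := polq_pos (P := P) k
  have hj := polq_pos (P := P) j
  constructor
  · intro h0
    rw [h0, mul_zero] at h
    exact (mul_eq_zero.mp h).resolve_left hk.ne'
  · intro h0
    rw [h0, mul_zero] at h
    exact (mul_eq_zero.mp h.symm).resolve_left hj.ne'

/-- sum of the roots of a set stable under a reflection is orthogonal to that coroot -/
lemma coroot'_sum_eq_zero_of_stable (j : ι) (T : Finset ι)
    (hT : ∀ k, k ∈ T ↔ P.reflectionPerm j k ∈ T) :
    P.coroot' j (∑ k ∈ T, P.root k) = 0 := by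
  set τ := ∑ k ∈ T, P.root k with hτ
  have h1 : P.reflection j τ = τ := by
    rw [hτ, map_sum]
    have : ∀ k ∈ T, P.reflection j (P.root k) = P.root (P.reflectionPerm j k) :=
      fun k _ => (P.root_reflectionPerm j k).symm
    rw [Finset.sum_congr rfl this]
    exact Finset.sum_equiv (P.reflectionPerm j) hT (fun _ _ => rfl)
  rw [P.reflection_apply, sub_eq_self] at h1
  rcases smul_eq_zero.mp h1 with h | h
  · exact h
  · exact absurd h (P.ne_zero j)

section FacetParab

variable {F : Facet P} {b : P.Base}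

lemma sgn_of_isPos (hb : b ∈ F.cham) {k : ι} (hk : b.IsPos k) : F.sgn k = 0 ∨ F.sgn k = 1 := by
  obtain ⟨ξ, hξ⟩ := F.exists_sgnVec_eq
  have h := coroot'_nonneg_of_mem_closedChamber (hb hξ) hk
  rw [← hξ]
  rcases h.eq_or_lt with h | h
  · left; rw [sgnVec_eq_zero_iff]; exact h.symm
  · right; rw [sgnVec_eq_one_iff]; exact h

lemma sgn_of_not_isPos (hb : b ∈ F.cham) {k : ι} (hk : ¬ b.IsPos k) :
    F.sgn k = 0 ∨ F.sgn k = -1 := by
  obtain ⟨ξ, hξ⟩ := F.exists_sgnVec_eq
  have h := coroot'_nonpos_of_mem_closedChamber (hb hξ) hk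
  rw [← hξ]
  rcases h.eq_or_lt with h | h
  · left; rw [sgnVec_eq_zero_iff]; exact h
  · right; rw [sgnVec_apply, sign_eq_neg_one_iff]; exact h

lemma isPos_mem_parab (hb : b ∈ F.cham) {k : ι} (hk : b.IsPos k) : k ∈ F.parab := by
  change F.sgn k ≠ -1
  rcases sgn_of_isPos hb hk with h | h <;> rw [h] <;> decide

lemma mem_parab_iff_of_not_isPos (hb : b ∈ F.cham) {k : ι} (hk : ¬ b.IsPos k) :
    k ∈ F.parab ↔ F.sgn k = 0 := by
  change F.sgn k ≠ -1 ↔ _
  rcases sgn_of_not_isPos hb hk with h | h <;> rw [h] <;> decide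

/-- a root vanishing on the facet has no component along a simple root positive on the facet -/
lemma root'_fundCoweight_eq_zero_of_sgn (hb : b ∈ F.cham) {k : ι} (hk : F.sgn k = 0)
    {j : b.support} (hj : F.sgn j = 1) : P.root' k (fundCoweight b j) = 0 := by
  obtain ⟨ξ, hξ⟩ := F.exists_sgnVec_eq
  rw [root'_fundCoweight_eq_zero_iff]
  have h0 : P.coroot' k ξ = 0 := by rw [← sgnVec_eq_zero_iff, hξ]; exact hk
  have hj' : 0 < P.coroot' j ξ := by rw [← sgnVec_eq_one_iff, hξ]; exact hj
  exact ((coroot'_eq_zero_iff (hb hξ) k).mp h0 j).resolve_right hj'.ne'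

lemma sgn_reflectionPerm_of_sgn_zero {j : ι} (hj : F.sgn j = 0) (k : ι) :
    F.sgn (P.reflectionPerm j k) = F.sgn k := by
  obtain ⟨ξ, hξ⟩ := F.exists_sgnVec_eq
  have h0 : P.coroot' j ξ = 0 := by rw [← sgnVec_eq_zero_iff, hξ]; exact hj
  rw [← hξ, sgnVec_apply, sgnVec_apply, ← P.coroot'_reflection, P.reflection_apply, h0, zero_smul,
    sub_zero]

end FacetParab

lemma coroot'_root_simple_nonpos (b : P.Base) {l j : ι} (hl : l ∈ b.support) (hj : j ∈ b.support)
    (h : l ≠ j) : P.coroot' j (P.root l) ≤ 0 := by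
  rw [P.root_coroot'_eq_pairing, ← P.algebraMap_pairingIn ℤ]
  have := b.pairingIn_le_zero_of_ne h hl hj
  simpa using (Int.cast_nonpos (R := R)).mpr this

lemma isPos_erase_stable (b : P.Base) (j : b.support) (k : ι)
    (h : k ≠ j ∧ b.IsPos k) : P.reflectionPerm j k ≠ j ∧ b.IsPos (P.reflectionPerm j k) := by
  refine ⟨fun e => ?_, h.2.reflectionPerm j.2 h.1⟩
  have : k = P.reflectionPerm j j := by
    have := congrArg (P.reflectionPerm j) e
    rwa [P.reflectionPerm_self] at this
  exact not_isPos_reflectionPerm_self b (RootPairing.Base.isPos_of_mem_support j.2) (this ▸ h.2)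

/-- the sum of the positive roots pairs to 2 with every simple coroot -/
lemma coroot'_sum_pos_roots [Fintype ι] (b : P.Base) [DecidablePred fun k => b.IsPos k]
    (j : b.support) :
    P.coroot' j (∑ k ∈ Finset.univ.filter (fun k => b.IsPos k), P.root k) = 2 := by
  classical
  have hjA : (j : ι) ∈ Finset.univ.filter (fun k => b.IsPos k) := by
    simp [RootPairing.Base.isPos_of_mem_support j.2]
  rw [← Finset.add_sum_erase _ _ hjA, map_add, coroot'_sum_eq_zero_of_stable (P := P) (j : ι), add_zero]
  · exact P.root_coroot_two j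
  · intro k
    simp only [Finset.mem_erase, Finset.mem_filter, Finset.mem_univ, true_and]
    constructor
    · exact isPos_erase_stable b j k
    · intro h
      have := isPos_erase_stable b j _ h
      rwa [P.reflectionPerm_self] at this

theorem sum_root_parab_mem_carrier (F : Facet P) :
    (∑ i ∈ (Set.toFinite F.parab).toFinset, P.root i) ∈ F.carrier := by
  classical
  obtain ⟨b, hb⟩ := Facet.cham_nonempty F
  have : Fintype ι := Fintype.ofFinite ι
  rw [mem_carrier_iff hb]
  intro j
  set S := (Set.toFinite F.parab).toFinset with hS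
  have hmemS : ∀ k, k ∈ S ↔ F.sgn k ≠ -1 := fun k => by simp [hS, Facet.parab]
  rcases sgn_simple_eq_zero_or_one hb j with hj | hj
  · rw [hj, coroot'_sum_eq_zero_of_stable (P := P) (j : ι) S
      (fun k => by rw [hmemS, hmemS, sgn_reflectionPerm_of_sgn_zero hj]), sign_zero]
  · rw [hj]
    apply sign_pos
    have hsplit : ∑ k ∈ S, P.root k = ∑ k ∈ Finset.univ.filter (fun k => b.IsPos k), P.root k +
        ∑ k ∈ Finset.univ.filter (fun k => ¬ b.IsPos k ∧ F.sgn k = 0), P.root k := by
      rw [← Finset.sum_filter_add_sum_filter_not S (fun k => b.IsPos k)]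
      congr 1
      · apply Finset.sum_congr _ (fun _ _ => rfl)
        ext k
        simp only [Finset.mem_filter, hmemS, Finset.mem_univ, true_and, and_iff_right_iff_imp]
        exact fun hk => isPos_mem_parab hb hk
      · apply Finset.sum_congr _ (fun _ _ => rfl)
        ext k
        simp only [Finset.mem_filter, hmemS, Finset.mem_univ, true_and]
        constructor
        · rintro ⟨h1, h2⟩; exact ⟨h2, (mem_parab_iff_of_not_isPos hb h2).mp h1⟩
        · rintro ⟨h1, h2⟩; exact ⟨by rw [h2]; decide, h1⟩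
    rw [hsplit, map_add, coroot'_sum_pos_roots b j]
    have hneg : 0 ≤ P.coroot' j
        (∑ k ∈ Finset.univ.filter (fun k => ¬ b.IsPos k ∧ F.sgn k = 0), P.root k) := by
      rw [map_sum]
      refine Finset.sum_nonneg fun k hk => ?_
      simp only [Finset.mem_filter, Finset.mem_univ, true_and] at hk
      rw [eq_sum_pair_fundCoweight b (P.root k), map_sum]
      refine Finset.sum_nonneg fun l _ => ?_
      rw [map_smul, smul_eq_mul]
      by_cases hlj : l = j
      · subst hlj
        have : P.toLinearMap (P.root k) (fundCoweight b l) = 0 :=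
          root'_fundCoweight_eq_zero_of_sgn hb hk.2 hj
        rw [this, zero_mul]
      · exact mul_nonneg_of_nonpos_of_nonpos (root'_fundCoweight_nonpos hk.1 l)
          (coroot'_root_simple_nonpos b l.2 j.2 (fun e => hlj (Subtype.ext e)))
    linarith

end Groth.Agent.Lib.Helper4.RootCh
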