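import Groth.Agent.Lib.Helper4.RootCh.Semistable
import Groth.Agent.Lib.Helper4.RootCh.Parab

set_option autoImplicit false
set_option linter.unusedSectionVars false
set_option linter.unusedVariables false

open Module RootCh

namespace Groth.Agent.Lib.Helper4.RootCh

variable {ι R M N : Type*} [Field R] [LinearOrder R] [IsStrictOrderedRing R]
  [AddCommGroup M] [Module R M] [AddCommGroup N] [Module R N]
  {P : RootPairing ι R M N} [P.IsRootSystem] [Finite ι] [P.IsCrystallographic] [P.IsReduced]
  {d : P.Base → N}

/-- the sum of the roots of the parabolic set of a facet -/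
noncomputable def sigma (F : Facet P) : M := ∑ i ∈ (Set.toFinite F.parab).toFinset, P.root i

lemma sigma_mem_carrier (F : Facet P) : sigma F ∈ F.carrier := sum_root_parab_mem_carrier F

omit [P.IsCrystallographic] [P.IsReduced] in
lemma deg_eq_pair (d : P.Base → N) (F : Facet P) (b : P.Base) :
    F.deg d b = P.toLinearMap (sigma F) (d b) := by
  rw [Facet.deg, sigma, map_sum, LinearMap.sum_apply]

theorem deg_eq_of_mem_cham (hd : IsCCS d) (F : Facet P) {b b' : P.Base} (hb : b ∈ F.cham)
    (hb' : b' ∈ F.cham) : F.deg d b = F.deg d b' := by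
  rw [deg_eq_pair, deg_eq_pair]
  apply pair_eq_of_mem_span (S := F.corners) _ (mem_span_corners_of_mem_carrier (sigma_mem_carrier F))
  intro m hm
  exact hd.corner_eq b b' m (corners_subset_baseCorners hb hm) (corners_subset_baseCorners hb' hm)

lemma deg_nonpos_of_corners (F : Facet P) {b : P.Base} (hb : b ∈ F.cham)
    (h : ∀ m ∈ baseCorners b, P.toLinearMap m (d b) ≤ 0) : F.deg d b ≤ 0 := by
  rw [deg_eq_pair, pair_eq_sum_fundWeight b]
  refine Finset.sum_nonpos fun j _ => mul_nonpos_of_nonneg_of_nonpos ?_
    (h _ (fundWeight_mem_baseCorners b j))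
  exact hb (sigma_mem_carrier F) j j.2

/-- the facet of a fundamental weight -/
lemma sigma_ofVec_fundWeight (b : P.Base) (j : b.support) :
    ∃ c : R, 0 < c ∧ sigma (Facet.ofVec P (fundWeight b j)) = c • fundWeight b j := by
  classical
  set F := Facet.ofVec P (fundWeight b j) with hF
  have hb : b ∈ F.cham := mem_ofVec_cham (fundWeight_mem_closedChamber b j)
  have hs := (mem_carrier_iff hb (sigma F)).mp (sigma_mem_carrier F)
  have hsgn : ∀ l : b.support, F.sgn l = if l = j then 1 else 0 := by
    intro l
    rw [hF, ofVec_sgn, coroot'_fundWeight_eq_ite b l j]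
    split_ifs <;> simp
  refine ⟨P.coroot' j (sigma F), ?_, ?_⟩
  · have := hs j
    rw [hsgn j, if_pos rfl, sign_eq_one_iff] at this
    exact this
  · conv_lhs => rw [eq_sum_fundWeight b (sigma F)]
    rw [Finset.sum_eq_single j]
    · intro l _ hl
      have := hs l
      rw [hsgn l, if_neg hl, sign_eq_zero_iff] at this
      rw [this, zero_smul]
    · intro h; exact absurd (Finset.mem_univ _) h

lemma corner_nonpos_of_deg (b : P.Base) (j : b.support)
    (h : (Facet.ofVec P (fundWeight b j)).deg d b ≤ 0) :
    P.toLinearMap (fundWeight b j) (d b) ≤ 0 := by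
  obtain ⟨c, hc, hσ⟩ := sigma_ofVec_fundWeight b j
  rw [deg_eq_pair, hσ, map_smul, LinearMap.smul_apply, smul_eq_mul] at h
  by_contra hcon; push Not at hcon
  exact absurd (mul_pos hc hcon) (not_lt.mpr h)

theorem forall_deg_nonpos_iff (hd : IsCCS d) :
    (∀ (F : Facet P) (b : P.Base), b ∈ F.cham → F.deg d b ≤ 0) ↔ IsSemistable d := by
  rw [← forall_corner_pairing_nonpos_iff hd]
  constructor
  · intro h b m hm
    rw [baseCorners_eq] at hm
    obtain ⟨j, rfl⟩ := hm
    exact corner_nonpos_of_deg b j
      (h _ b (mem_ofVec_cham (fundWeight_mem_closedChamber b j)))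
  · intro h F b hb
    exact deg_nonpos_of_corners F hb (h b)

lemma fundWeight_ne_zero (b : P.Base) (j : b.support) : fundWeight b j ≠ 0 := by
  intro h
  have := coroot'_fundWeight_self b j
  rw [h, map_zero] at this
  exact zero_ne_one this

lemma dim_ofVec_fundWeight (b : P.Base) (j : b.support) :
    (Facet.ofVec P (fundWeight b j)).dim = 1 := by
  classical
  set F := Facet.ofVec P (fundWeight b j) with hF
  have hb : b ∈ F.cham := mem_ofVec_cham (fundWeight_mem_closedChamber b j)
  have hc : F.corners = {fundWeight b j} := by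
    rw [corners_eq hb]
    ext w
    simp only [Set.mem_ofPred_eq, Set.mem_singleton_iff]
    constructor
    · rintro ⟨l, hl, rfl⟩
      rw [hF, ofVec_sgn, coroot'_fundWeight_eq_ite b l j] at hl
      split_ifs at hl with hlj
      · rw [hlj]
      · simp at hl
    · rintro rfl
      refine ⟨j, ?_, rfl⟩
      rw [hF, ofVec_sgn, coroot'_fundWeight_self, sign_one]
  rw [Facet.dim, span_carrier_eq_span_corners, hc]
  exact finrank_span_singleton (fundWeight_ne_zero b j)

theorem forall_deg_nonpos_of_dim_one_iff (hd : IsCCS d) :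
    (∀ (F : Facet P) (b : P.Base), F.dim = 1 → b ∈ F.cham → F.deg d b ≤ 0) ↔ IsSemistable d := by
  constructor
  · intro h
    rw [← forall_corner_pairing_nonpos_iff hd]
    intro b m hm
    rw [baseCorners_eq] at hm
    obtain ⟨j, rfl⟩ := hm
    exact corner_nonpos_of_deg b j
      (h _ b (dim_ofVec_fundWeight b j) (mem_ofVec_cham (fundWeight_mem_closedChamber b j)))
  · intro h F b _ hb
    exact (forall_deg_nonpos_iff hd).mpr h F b hb

end Groth.Agent.Lib.Helper4.RootCh
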