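import Groth.Agent.Lib.Helper4.RootCh.FacetThms

set_option autoImplicit false
set_option linter.unusedSectionVars false
set_option linter.unusedVariables false

open Module RootCh

namespace Groth.Agent.Lib.Helper4.RootCh

variable {ι R M N : Type*} [Field R] [LinearOrder R] [IsStrictOrderedRing R]
  [AddCommGroup M] [Module R M] [AddCommGroup N] [Module R N]
  {P : RootPairing ι R M N} [P.IsRootSystem] [Finite ι] [P.IsCrystallographic] [P.IsReduced]

lemma exists_int_root'_fundCoweight' (b : P.Base) (k : ι) (j : b.support) :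
    ∃ z : ℤ, P.root' k (fundCoweight b j) = (z : R) := by
  obtain ⟨f, hf, -⟩ := exists_int_root'_fundCoweight b k
  exact ⟨f j, hf j⟩

/-- the coweight corresponding to a fundamental weight is well defined -/
theorem corr_unique {b b' : P.Base} {i : b.support} {i' : b'.support}
    (h : fundWeight b i = fundWeight b' i') : fundCoweight b i = fundCoweight b' i' := by
  have h1 : polq P i • fundCoweight b i = polq P i' • fundCoweight b' i' := by
    rw [← pol_fundWeight, ← pol_fundWeight, h]
  have hi := polq_pos (P := P) i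
  have hi' := polq_pos (P := P) i'
  set c := polq P i / polq P i' with hc
  have hcpos : 0 < c := div_pos hi hi'
  have h2 : fundCoweight b' i' = c • fundCoweight b i := by
    rw [hc, div_eq_inv_mul, mul_smul, h1, smul_smul, inv_mul_cancel₀ hi'.ne', one_smul]
  have h3 : P.root' i (fundCoweight b' i') = c := by
    rw [h2, map_smul, root'_fundCoweight_self, smul_eq_mul, mul_one]
  have h4 : c * P.root' i' (fundCoweight b i) = 1 := by
    have := root'_fundCoweight_self b' i'
    rw [h2, map_smul, smul_eq_mul] at this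
    exact this
  have hc1 : c = 1 := by
    refine int_unit_aux ?_ (exists_int_root'_fundCoweight' b i' i) h4 hcpos
    obtain ⟨z, hz⟩ := exists_int_root'_fundCoweight' b' i i'
    exact ⟨z, by rw [← h3, hz]⟩
  rw [h2, hc1, one_smul]

theorem corr_unique' {b b' : P.Base} {i : b.support} {i' : b'.support}
    (h : fundCoweight b i = fundCoweight b' i') : fundWeight b i = fundWeight b' i' :=
  corr_unique (P := P.flip) (b := b.flip) (b' := b'.flip) (i := i) (i' := i') h

lemma corr_iff {b : P.Base} {i : b.support} (y : N) :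
    Corr P (fundWeight b i) y ↔ y = fundCoweight b i := by
  constructor
  · rintro ⟨b', i', h1, h2⟩
    rw [← h2]; exact corr_unique h1
  · rintro rfl; exact ⟨b, i, rfl, rfl⟩

lemma fundWeight_mem_closure_iff_dual (F : Facet P) (b : P.Base) (i : b.support) :
    fundWeight b i ∈ F.closure ↔ fundCoweight b i ∈ F.dualClosure := by
  simp only [Facet.closure, Facet.dualClosure, Set.mem_ofPred_eq, sgnVec_fundWeight]

theorem dualCorners_eq (F : Facet P) :
    F.dualCorners = {y : N | ∃ m ∈ F.corners, Corr P m y} := by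
  ext y
  constructor
  · rintro ⟨⟨b', i, rfl⟩, hy⟩
    obtain ⟨b, rfl⟩ : ∃ b : P.Base, b.flip = b' := ⟨b'.flip, rfl⟩
    refine ⟨fundWeight b i, ⟨⟨b, i, rfl⟩, ?_⟩, ⟨b, i, rfl, rfl⟩⟩
    exact (fundWeight_mem_closure_iff_dual F b i).mpr hy
  · rintro ⟨m, ⟨-, hm⟩, ⟨b, i, rfl, rfl⟩⟩
    exact ⟨⟨b.flip, i, rfl⟩, (fundWeight_mem_closure_iff_dual F b i).mp hm⟩

theorem corners_eq_setOf_nonneg_on_parab (F : Facet P) :
    F.corners = {m : M | m ∈ fundWeights P ∧
      ∀ y : N, Corr P m y → ∀ i ∈ F.parab, 0 ≤ P.root' i y} := by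
  ext m
  constructor
  · rintro ⟨hm1, hm2⟩
    refine ⟨hm1, ?_⟩
    rintro y ⟨b, i, rfl, rfl⟩ k hk
    have h1 := hm2 k
    rw [sgnVec_fundWeight] at h1
    have hk' : F.sgn k ≠ -1 := hk
    have : cosgnVec P (fundCoweight b i) k ≠ -1 := by
      rcases h1 with h1 | h1
      · rw [h1]; decide
      · rw [h1]; exact hk'
    simpa [cosgnVec, sign_eq_neg_one_iff] using this
  · rintro ⟨⟨b, i, rfl⟩, h⟩
    refine ⟨⟨b, i, rfl⟩, ?_⟩
    have h' : ∀ k, F.sgn k ≠ -1 → sgnVec P (fundWeight b i) k ≠ -1 := by
      intro k hk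
      have := h (fundCoweight b i) ⟨b, i, rfl, rfl⟩ k hk
      rw [sgnVec_fundWeight]
      simpa [cosgnVec, sign_eq_neg_one_iff] using this
    intro k
    have hA := h' k
    have hB := h' (P.reflectionPerm k k)
    rw [sgnVec_reflectionPerm_self, Facet.sgn_reflectionPerm_self] at hB
    generalize sgnVec P (fundWeight b i) k = s at hA hB ⊢
    generalize F.sgn k = t at hA hB ⊢
    cases s <;> cases t <;> simp_all

end Groth.Agent.Lib.Helper4.RootCh
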