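import Groth.Agent.Lib.Helper4.RootCh.Corners

set_option autoImplicit false
set_option linter.unusedSectionVars false
set_option linter.unusedVariables false

open Module RootCh

namespace Groth.Agent.Lib.Helper4.RootCh

variable {ι R M N : Type*} [Field R] [LinearOrder R] [IsStrictOrderedRing R]
  [AddCommGroup M] [Module R M] [AddCommGroup N] [Module R N]
  {P : RootPairing ι R M N} [P.IsRootSystem] [Finite ι] [P.IsCrystallographic] [P.IsReduced]

lemma coroot'_fundWeight_eq_ite (b : P.Base) (i j : b.support) [Decidable (i = j)] :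
    P.coroot' i (fundWeight b j) = if i = j then 1 else 0 := by
  split_ifs with h
  · subst h; exact coroot'_fundWeight_self b i
  · exact coroot'_fundWeight_of_ne b j i h

lemma linearIndependent_fundWeight (b : P.Base) : LinearIndependent R (fundWeight b) := by
  classical
  rw [linearIndependent_iff']
  intro s g hg i hi
  have := congrArg (P.coroot' i) hg
  rw [map_sum, map_zero, Finset.sum_eq_single i] at this
  · rwa [map_smul, coroot'_fundWeight_self, smul_eq_mul, mul_one] at this
  · intro j _ hj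
    rw [map_smul, coroot'_fundWeight_of_ne b j i (Ne.symm hj), smul_zero]
  · intro h; exact absurd hi h

lemma fundWeight_injective (b : P.Base) : Function.Injective (fundWeight b) :=
  (linearIndependent_fundWeight b).injective

lemma coroot'_eq_zero_iff {b : P.Base} {ξ : M} (hξ : ξ ∈ closedChamber b) (k : ι) :
    P.coroot' k ξ = 0 ↔
      ∀ j : b.support, P.coroot' k (fundWeight b j) = 0 ∨ P.coroot' j ξ = 0 := by
  constructor
  · intro h j
    exact mul_eq_zero.mp (coroot'_fundWeight_mul_eq_zero hξ h j)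
  · intro h
    rw [coroot'_eq_sum b]
    exact Finset.sum_eq_zero fun j _ => mul_eq_zero.mpr (h j)

omit [AddCommGroup M] [Module R M] [AddCommGroup N] [Module R N] in
lemma sign_eq_of_nonneg {x y : R} (hx : 0 ≤ x) (hy : 0 ≤ y) (h : x = 0 ↔ y = 0) :
    SignType.sign x = SignType.sign y := by
  rcases hx.eq_or_lt with hx0 | hx0
  · rw [← hx0, ← h.mp hx0.symm]
  · have hy0 : 0 < y := lt_of_le_of_ne hy (fun e => hx0.ne' (h.mpr e.symm))
    rw [sign_pos hx0, sign_pos hy0]

omit [AddCommGroup M] [Module R M] [AddCommGroup N] [Module R N] in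
lemma sign_eq_of_nonpos {x y : R} (hx : x ≤ 0) (hy : y ≤ 0) (h : x = 0 ↔ y = 0) :
    SignType.sign x = SignType.sign y := by
  rcases hx.eq_or_lt with hx0 | hx0
  · rw [hx0, h.mp hx0]
  · have hy0 : y < 0 := lt_of_le_of_ne hy (fun e => hx0.ne (h.mpr e))
    rw [sign_neg hx0, sign_neg hy0]

/-- two vectors of a closed chamber with the same zero pattern on the simple coroots lie in the
same facet -/
lemma sgnVec_eq_of_closedChamber {b : P.Base} {ξ ξ' : M} (hξ : ξ ∈ closedChamber b)
    (hξ' : ξ' ∈ closedChamber b)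
    (h : ∀ j ∈ b.support, P.coroot' j ξ = 0 ↔ P.coroot' j ξ' = 0) : sgnVec P ξ = sgnVec P ξ' := by
  funext k
  have hz : P.coroot' k ξ = 0 ↔ P.coroot' k ξ' = 0 := by
    rw [coroot'_eq_zero_iff hξ, coroot'_eq_zero_iff hξ']
    exact forall_congr' fun j => or_congr Iff.rfl (h j j.2)
  by_cases hk : b.IsPos k
  · exact sign_eq_of_nonneg (coroot'_nonneg_of_mem_closedChamber hξ hk)
      (coroot'_nonneg_of_mem_closedChamber hξ' hk) hz
  · exact sign_eq_of_nonpos (coroot'_nonpos_of_mem_closedChamber hξ hk)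
      (coroot'_nonpos_of_mem_closedChamber hξ' hk) hz

lemma mem_carrier_iff {F : Facet P} {b : P.Base} (hb : b ∈ F.cham) (ξ : M) :
    ξ ∈ F.carrier ↔ ∀ j : b.support, SignType.sign (P.coroot' j ξ) = F.sgn j := by
  constructor
  · intro h j
    have h' : sgnVec P ξ = F.sgn := h
    rw [← h']; rfl
  · intro h
    obtain ⟨ξ₀, hξ₀⟩ := F.exists_sgnVec_eq
    have h0 : ξ₀ ∈ closedChamber b := hb hξ₀
    have hcl : ξ ∈ closedChamber b := by
      intro j hj
      rw [← sgnVec_ne_neg_one_iff, sgnVec_apply, h ⟨j, hj⟩]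
      exact (mem_cham_iff F b).mp hb j hj
    change sgnVec P ξ = F.sgn
    rw [← hξ₀]
    apply sgnVec_eq_of_closedChamber hcl h0
    intro j hj
    rw [← sgnVec_eq_zero_iff, ← sgnVec_eq_zero_iff, hξ₀, sgnVec_apply, h ⟨j, hj⟩]

lemma closure_cond_neg (F : Facet P) (ξ : M) (k : ι) :
    (sgnVec P ξ (P.reflectionPerm k k) = 0 ∨
      sgnVec P ξ (P.reflectionPerm k k) = F.sgn (P.reflectionPerm k k)) ↔
    (sgnVec P ξ k = 0 ∨ sgnVec P ξ k = F.sgn k) := by
  rw [sgnVec_reflectionPerm_self, Facet.sgn_reflectionPerm_self]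
  generalize sgnVec P ξ k = s
  generalize F.sgn k = t
  cases s <;> cases t <;> decide

lemma mem_closure_of_forall_isPos (F : Facet P) (b : P.Base) (ξ : M)
    (h : ∀ k, b.IsPos k → (sgnVec P ξ k = 0 ∨ sgnVec P ξ k = F.sgn k)) : ξ ∈ F.closure := by
  intro k
  let _ := P.indexNeg
  rcases RootPairing.Base.IsPos.or_neg b k with hk | hk
  · exact h k hk
  · exact (closure_cond_neg F ξ k).mp (h _ hk)

lemma fundWeight_mem_closure_iff {F : Facet P} {b : P.Base} (hb : b ∈ F.cham) (j : b.support) :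
    fundWeight b j ∈ F.closure ↔ F.sgn j = 1 := by
  constructor
  · intro h
    rcases h j with h1 | h1
    · rw [sgnVec_apply, coroot'_fundWeight_self] at h1
      simp at h1
    · rw [sgnVec_apply, coroot'_fundWeight_self, sign_one] at h1
      exact h1.symm
  · intro h
    obtain ⟨ξ, hξ⟩ := F.exists_sgnVec_eq
    have hcl : ξ ∈ closedChamber b := hb hξ
    have hj : 0 < P.coroot' j ξ := by rw [← sgnVec_eq_one_iff, hξ]; exact h
    apply mem_closure_of_forall_isPos F b
    intro k hk
    rcases (coroot'_fundWeight_nonneg hk j).eq_or_lt with h0 | h0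
    · left; rw [sgnVec_eq_zero_iff]; exact h0.symm
    · right
      rw [← hξ, (sgnVec_eq_one_iff _ k).mpr h0, eq_comm, sgnVec_eq_one_iff, coroot'_eq_sum b]
      calc 0 < P.coroot' k (fundWeight b j) * P.coroot' j ξ := mul_pos h0 hj
        _ ≤ _ := Finset.single_le_sum
          (f := fun j : b.support => P.coroot' k (fundWeight b j) * P.coroot' j ξ)
          (fun j _ => mul_nonneg (coroot'_fundWeight_nonneg hk j) (hcl j j.2)) (Finset.mem_univ j)

lemma corners_eq {F : Facet P} {b : P.Base} (hb : b ∈ F.cham) :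
    F.corners = {w | ∃ j : b.support, F.sgn j = 1 ∧ fundWeight b j = w} := by
  ext w
  constructor
  · rintro ⟨hw1, hw2⟩
    have : w ∈ baseCorners b := ⟨hw1, closure_subset_closedChamber hb hw2⟩
    rw [baseCorners_eq] at this
    obtain ⟨j, rfl⟩ := this
    exact ⟨j, (fundWeight_mem_closure_iff hb j).mp hw2, rfl⟩
  · rintro ⟨j, hj, rfl⟩
    exact ⟨⟨b, j, rfl⟩, (fundWeight_mem_closure_iff hb j).mpr hj⟩

lemma corners_subset_range {F : Facet P} {b : P.Base} (hb : b ∈ F.cham) :
    F.corners ⊆ Set.range (fundWeight b) := by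
  rw [corners_eq hb]
  rintro w ⟨j, -, rfl⟩
  exact ⟨j, rfl⟩

lemma fundWeight_mem_corners_iff {F : Facet P} {b : P.Base} (hb : b ∈ F.cham) (j : b.support) :
    fundWeight b j ∈ F.corners ↔ F.sgn j = 1 := by
  rw [corners_eq hb]
  constructor
  · rintro ⟨j', hj', h⟩
    rw [← fundWeight_injective b h]; exact hj'
  · intro h; exact ⟨j, h, rfl⟩

lemma sgn_simple_eq_zero_or_one {F : Facet P} {b : P.Base} (hb : b ∈ F.cham) (j : b.support) :
    F.sgn j = 0 ∨ F.sgn j = 1 := by
  have := (mem_cham_iff F b).mp hb j j.2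
  generalize F.sgn j = s at this
  cases s <;> simp_all

lemma coroot'_simple_of_mem_carrier {F : Facet P} {b : P.Base} (hb : b ∈ F.cham) {ξ : M}
    (hξ : ξ ∈ F.carrier) (j : b.support) :
    (F.sgn j = 1 → 0 < P.coroot' j ξ) ∧ (F.sgn j ≠ 1 → P.coroot' j ξ = 0) := by
  have hξ' : sgnVec P ξ = F.sgn := hξ
  constructor
  · intro h; rw [← sgnVec_eq_one_iff, hξ']; exact h
  · intro h
    rcases sgn_simple_eq_zero_or_one hb j with h0 | h0
    · rw [← sgnVec_eq_zero_iff, hξ']; exact h0
    · exact absurd h0 h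

end Groth.Agent.Lib.Helper4.RootCh
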