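import Groth.Agent.Lib.Helper4.RootCh.FacetStruct

set_option autoImplicit false
set_option linter.unusedSectionVars false
set_option linter.unusedVariables false

open Module RootCh

namespace Groth.Agent.Lib.Helper4.RootCh

variable {ι R M N : Type*} [Field R] [LinearOrder R] [IsStrictOrderedRing R]
  [AddCommGroup M] [Module R M] [AddCommGroup N] [Module R N]
  {P : RootPairing ι R M N} [P.IsRootSystem] [Finite ι] [P.IsCrystallographic] [P.IsReduced]

theorem linearIndepOn_corners (F : Facet P) : LinearIndepOn R (fun m : M => m) F.corners := by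
  obtain ⟨b, hb⟩ := Facet.cham_nonempty F
  exact (linearIndependent_fundWeight b).linearIndepOn_id.mono (corners_subset_range hb)

/-- a vector of a facet is the combination of the corners with its simple coroot pairings -/
lemma mem_span_corners_of_mem_carrier {F : Facet P} {ξ : M} (hξ : ξ ∈ F.carrier) :
    ξ ∈ Submodule.span R F.corners := by
  obtain ⟨b, hb⟩ := Facet.cham_nonempty F
  rw [eq_sum_fundWeight b ξ]
  refine Submodule.sum_mem _ fun j _ => ?_
  by_cases hj : F.sgn j = 1
  · exact Submodule.smul_mem _ _ (Submodule.subset_span ((fundWeight_mem_corners_iff hb j).mpr hj))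
  · rw [(coroot'_simple_of_mem_carrier hb hξ j).2 hj, zero_smul]
    exact Submodule.zero_mem _

lemma add_fundWeight_mem_carrier {F : Facet P} {b : P.Base} (hb : b ∈ F.cham) {ξ : M}
    (hξ : ξ ∈ F.carrier) {j₀ : b.support} (hj₀ : F.sgn j₀ = 1) :
    ξ + fundWeight b j₀ ∈ F.carrier := by
  classical
  rw [mem_carrier_iff hb]
  intro j
  have h1 := (mem_carrier_iff hb ξ).mp hξ j
  rw [map_add, coroot'_fundWeight_eq_ite b j j₀]
  split_ifs with h
  · subst h
    rw [hj₀]
    have := (coroot'_simple_of_mem_carrier hb hξ j).1 hj₀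
    exact sign_pos (by linarith)
  · rw [add_zero]; exact h1

theorem span_carrier_eq_span_corners (F : Facet P) :
    Submodule.span R F.carrier = Submodule.span R F.corners := by
  obtain ⟨b, hb⟩ := Facet.cham_nonempty F
  apply le_antisymm
  · exact Submodule.span_le.mpr fun ξ hξ => mem_span_corners_of_mem_carrier hξ
  · rw [Submodule.span_le, corners_eq hb]
    rintro w ⟨j, hj, rfl⟩
    obtain ⟨ξ, hξ⟩ := F.exists_sgnVec_eq
    have h1 : ξ + fundWeight b j ∈ F.carrier := add_fundWeight_mem_carrier hb hξ hj
    have : fundWeight b j = (ξ + fundWeight b j) - ξ := by abel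
    rw [this]
    exact Submodule.sub_mem _ (Submodule.subset_span h1) (Submodule.subset_span hξ)

/-- the pairing of a simple coroot with a combination of corners -/
lemma coroot'_finsupp_sum {F : Facet P} {b : P.Base} (hb : b ∈ F.cham) (c : M →₀ R)
    (hc : (c.support : Set M) ⊆ F.corners) (j : b.support) :
    P.coroot' j (c.sum fun m r => r • m) = c (fundWeight b j) := by
  classical
  rw [Finsupp.sum, map_sum]
  have h1 : ∀ m ∈ c.support, P.coroot' j (c m • m) =
      if m = fundWeight b j then c m else 0 := by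
    intro m hm
    obtain ⟨j', rfl⟩ := corners_subset_range hb (hc hm)
    rw [map_smul, smul_eq_mul, coroot'_fundWeight_eq_ite b j j']
    by_cases h : j = j'
    · subst h; simp
    · have : fundWeight b j' ≠ fundWeight b j := fun e => h (fundWeight_injective b e).symm
      rw [if_neg h, if_neg this, mul_zero]
  rw [Finset.sum_congr rfl h1, Finset.sum_ite_eq' c.support (fundWeight b j) (fun m => c m)]
  split_ifs with h
  · rfl
  · exact (Finsupp.notMem_support_iff.mp h).symm

theorem carrier_eq_setOf_pos_comb_corners (F : Facet P) :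
    F.carrier = {ξ : M | ∃ c : M →₀ R, (c.support : Set M) ⊆ F.corners ∧
      (∀ m ∈ F.corners, 0 < c m) ∧ c.sum (fun m r => r • m) = ξ} := by
  classical
  obtain ⟨b, hb⟩ := Facet.cham_nonempty F
  ext ξ
  constructor
  · intro hξ
    refine ⟨∑ j : b.support, Finsupp.single (fundWeight b j) (P.coroot' j ξ), ?_, ?_, ?_⟩
    · intro m hm
      have hm' : (∑ j : b.support, Finsupp.single (fundWeight b j) (P.coroot' j ξ)) m ≠ 0 :=
        Finsupp.mem_support_iff.mp hm
      rw [Finsupp.finsetSum_apply] at hm'
      obtain ⟨j, -, hj⟩ := Finset.exists_ne_zero_of_sum_ne_zero hm'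
      rw [Finsupp.single_apply] at hj
      split_ifs at hj with h
      · rw [← h, fundWeight_mem_corners_iff hb]
        by_contra hne
        exact hj ((coroot'_simple_of_mem_carrier hb hξ j).2 hne)
      · exact absurd rfl hj
    · intro m hm
      rw [corners_eq hb] at hm
      obtain ⟨j, hj, rfl⟩ := hm
      rw [Finsupp.finsetSum_apply, Finset.sum_eq_single j]
      · rw [Finsupp.single_eq_same]
        exact (coroot'_simple_of_mem_carrier hb hξ j).1 hj
      · intro j' _ hj'
        rw [Finsupp.single_apply, if_neg (fun e => hj' (fundWeight_injective b e))]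
      · intro h; exact absurd (Finset.mem_univ _) h
    · have : (∑ j : b.support, Finsupp.single (fundWeight b j) (P.coroot' j ξ)).sum
          (fun m r => r • m) = Finsupp.linearCombination R (id : M → M)
            (∑ j : b.support, Finsupp.single (fundWeight b j) (P.coroot' j ξ)) := by
        rw [Finsupp.linearCombination_apply]; rfl
      rw [this, map_sum]
      simp only [Finsupp.linearCombination_single, id]
      exact (eq_sum_fundWeight b ξ).symm
  · rintro ⟨c, hc1, hc2, rfl⟩
    rw [mem_carrier_iff hb]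
    intro j
    rw [coroot'_finsupp_sum hb c hc1 j]
    rcases sgn_simple_eq_zero_or_one hb j with h0 | h1
    · have : fundWeight b j ∉ F.corners := by
        rw [fundWeight_mem_corners_iff hb, h0]; decide
      have : c (fundWeight b j) = 0 := by
        by_contra hne
        exact this (hc1 (Finsupp.mem_support_iff.mpr hne))
      rw [this, h0, sign_zero]
    · rw [h1]
      exact sign_pos (hc2 _ ((fundWeight_mem_corners_iff hb j).mpr h1))

omit [Finite ι] [P.IsCrystallographic] [P.IsReduced] [P.IsRootSystem] in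
lemma ofVec_sgn (ξ : M) (k : ι) : (Facet.ofVec P ξ).sgn k = SignType.sign (P.coroot' k ξ) := rfl

omit [Finite ι] [P.IsCrystallographic] [P.IsReduced] [P.IsRootSystem] in
lemma mem_ofVec_carrier (ξ : M) : ξ ∈ (Facet.ofVec P ξ).carrier := rfl

omit [Finite ι] [P.IsCrystallographic] [P.IsReduced] [P.IsRootSystem] in
lemma mem_ofVec_cham {ξ : M} {b : P.Base} (h : ξ ∈ closedChamber b) : b ∈ (Facet.ofVec P ξ).cham :=
  mem_cham_of_mem (mem_ofVec_carrier ξ) h

theorem exists_corners_eq_insert (F : Facet P) (m : M) (hm : m ∈ F.corners') :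
    ∃ G : Facet P, G.corners = insert m F.corners := by
  classical
  simp only [Facet.corners', Set.mem_iUnion] at hm
  obtain ⟨b, hb, hmb⟩ := hm
  rw [baseCorners_eq] at hmb
  obtain ⟨j₀, rfl⟩ := hmb
  obtain ⟨ξ, hξ⟩ := F.exists_sgnVec_eq
  have hcl : ξ + fundWeight b j₀ ∈ closedChamber b := by
    intro i hi
    rw [map_add]
    exact add_nonneg (hb hξ i hi) (fundWeight_mem_closedChamber b j₀ i hi)
  refine ⟨Facet.ofVec P (ξ + fundWeight b j₀), ?_⟩
  have hb' := mem_ofVec_cham hcl
  have hsgn : ∀ j : b.support, (Facet.ofVec P (ξ + fundWeight b j₀)).sgn j = 1 ↔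
      (j = j₀ ∨ F.sgn j = 1) := by
    intro j
    rw [ofVec_sgn, sign_eq_one_iff, map_add, coroot'_fundWeight_eq_ite b j j₀]
    have h1 := coroot'_simple_of_mem_carrier hb hξ j
    have h0 : 0 ≤ P.coroot' j ξ := hb hξ j j.2
    constructor
    · intro h
      by_cases hj : j = j₀
      · exact Or.inl hj
      · right
        rw [if_neg hj, add_zero] at h
        by_contra hne
        rw [h1.2 hne] at h
        exact lt_irrefl _ h
    · rintro (h | h)
      · rw [if_pos h]; linarith
      · have := h1.1 h
        split_ifs <;> linarith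
  rw [corners_eq hb', corners_eq hb]
  ext w
  simp only [Set.mem_ofPred_eq, Set.mem_insert_iff]
  constructor
  · rintro ⟨j, hj, rfl⟩
    rcases (hsgn j).mp hj with h | h
    · left; rw [h]
    · right; exact ⟨j, h, rfl⟩
  · rintro (rfl | ⟨j, hj, rfl⟩)
    · exact ⟨j₀, (hsgn j₀).mpr (Or.inl rfl), rfl⟩
    · exact ⟨j, (hsgn j).mpr (Or.inr hj), rfl⟩

theorem exists_corners_eq_diff_singleton (F : Facet P) (m : M) (hm : m ∈ F.corners) :
    ∃ G : Facet P, G.corners = F.corners \ {m} := by
  classical
  obtain ⟨b, hb⟩ := Facet.cham_nonempty F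
  have hm' := hm
  rw [corners_eq hb] at hm'
  obtain ⟨j₀, hj₀, rfl⟩ := hm'
  obtain ⟨ξ, hξ⟩ := F.exists_sgnVec_eq
  set η := ξ - P.coroot' j₀ ξ • fundWeight b j₀ with hη
  have hcoef : ∀ j : b.support, P.coroot' j η = if j = j₀ then 0 else P.coroot' j ξ := by
    intro j
    rw [hη, map_sub, map_smul, smul_eq_mul, coroot'_fundWeight_eq_ite b j j₀]
    split_ifs with h
    · subst h; ring
    · ring
  have hcl : η ∈ closedChamber b := by
    intro i hi
    have := hcoef ⟨i, hi⟩
    simp only at this
    rw [this]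
    split_ifs
    · exact le_rfl
    · exact hb hξ i hi
  refine ⟨Facet.ofVec P η, ?_⟩
  have hb' := mem_ofVec_cham hcl
  have hsgn : ∀ j : b.support, (Facet.ofVec P η).sgn j = 1 ↔ (j ≠ j₀ ∧ F.sgn j = 1) := by
    intro j
    rw [ofVec_sgn, sign_eq_one_iff, hcoef j]
    have h1 := coroot'_simple_of_mem_carrier hb hξ j
    constructor
    · intro h
      by_cases hj : j = j₀
      · rw [if_pos hj] at h; exact absurd h (lt_irrefl _)
      · rw [if_neg hj] at h
        refine ⟨hj, ?_⟩
        by_contra hne
        rw [h1.2 hne] at h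
        exact lt_irrefl _ h
    · rintro ⟨hj, h⟩
      rw [if_neg hj]; exact h1.1 h
  rw [corners_eq hb', corners_eq hb]
  ext w
  simp only [Set.mem_ofPred_eq, Set.mem_sdiff, Set.mem_singleton_iff]
  constructor
  · rintro ⟨j, hj, rfl⟩
    obtain ⟨h1, h2⟩ := (hsgn j).mp hj
    exact ⟨⟨j, h2, rfl⟩, fun e => h1 (fundWeight_injective b e)⟩
  · rintro ⟨⟨j, hj, rfl⟩, hne⟩
    exact ⟨j, (hsgn j).mpr ⟨fun e => hne (by rw [e]), hj⟩, rfl⟩

end Groth.Agent.Lib.Helper4.RootCh
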