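import Mathlib.Analysis.Convex.Hull
import Mathlib.Analysis.Convex.Combination
import Mathlib.LinearAlgebra.Dual.Lemmas
import Mathlib.Algebra.BigOperators.Fin

/-!
# Farkas' lemma over a linearly ordered field (Bartl's algebraic proof) and separation of a point
from the convex hull of a finite family.
-/

set_option autoImplicit false

namespace Groth.Agent.Lib.Helper4.RootCh

variable {F V : Type*} [Field F] [LinearOrder F] [IsStrictOrderedRing F] [AddCommGroup V] [Module F V]

/-- Farkas' lemma (functional form). -/
theorem farkas : ∀ (m : ℕ) (α : Fin m → V →ₗ[F] F) (γ : V →ₗ[F] F),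
    (∀ x, (∀ i, 0 ≤ α i x) → 0 ≤ γ x) →
    ∃ c : Fin m → F, (∀ i, 0 ≤ c i) ∧ γ = ∑ i, c i • α i := by
  intro m
  induction m with
  | zero =>
    intro α γ h
    refine ⟨fun _ => 0, fun _ => le_rfl, ?_⟩
    ext x
    have h1 := h x (fun i => i.elim0)
    have h2 := h (-x) (fun i => i.elim0)
    rw [map_neg] at h2
    simp only [Finset.univ_eq_empty, Finset.sum_empty, LinearMap.zero_apply]
    linarith
  | succ m ih =>
    intro α γ h
    by_cases H : ∀ x, (∀ i : Fin m, 0 ≤ α i.castSucc x) → 0 ≤ γ x
    · obtain ⟨c, hc, hγ⟩ := ih (fun i => α i.castSucc) γ H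
      refine ⟨Fin.lastCases 0 c, ?_, ?_⟩
      · intro i
        induction i using Fin.lastCases with
        | last => simp
        | cast i => simpa using hc i
      · rw [Fin.sum_univ_castSucc]
        simp [hγ]
    · push Not at H
      obtain ⟨x₀, hx₀, hγ₀⟩ := H
      have ha : α (Fin.last m) x₀ < 0 := by
        by_contra hcon
        push Not at hcon
        have := h x₀ (fun i => by
          induction i using Fin.lastCases with
          | last => exact hcon
          | cast i => exact hx₀ i)
        linarith
      set a := α (Fin.last m) x₀ with ha_def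
      set x₁ : V := (-a)⁻¹ • x₀ with hx₁
      have hpos : 0 < (-a)⁻¹ := inv_pos.mpr (neg_pos.mpr ha)
      have h1 : α (Fin.last m) x₁ = -1 := by
        rw [hx₁, map_smul, smul_eq_mul, ← ha_def, inv_neg, neg_mul, inv_mul_cancel₀ ha.ne]
      have h2 : ∀ i : Fin m, 0 ≤ α i.castSucc x₁ := by
        intro i
        rw [hx₁, map_smul, smul_eq_mul]
        exact mul_nonneg hpos.le (hx₀ i)
      have h3 : γ x₁ < 0 := by
        rw [hx₁, map_smul, smul_eq_mul]
        exact mul_neg_of_pos_of_neg hpos hγ₀
      let α' : Fin m → V →ₗ[F] F := fun i => α i.castSucc + (α i.castSucc x₁) • α (Fin.last m)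
      let γ' : V →ₗ[F] F := γ + (γ x₁) • α (Fin.last m)
      have hyp : ∀ x, (∀ i, 0 ≤ α' i x) → 0 ≤ γ' x := by
        intro x hx
        have key := h (x + (α (Fin.last m) x) • x₁) (fun i => by
          induction i using Fin.lastCases with
          | last =>
            rw [map_add, map_smul, h1, smul_eq_mul]
            linarith
          | cast i =>
            have := hx i
            simp only [α', LinearMap.add_apply, LinearMap.smul_apply, smul_eq_mul] at this
            rw [map_add, map_smul, smul_eq_mul]
            linarith)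
        simp only [γ', LinearMap.add_apply, LinearMap.smul_apply, smul_eq_mul]
        rw [map_add, map_smul, smul_eq_mul] at key
        linarith
      obtain ⟨c, hc, hγ'⟩ := ih α' γ' hyp
      refine ⟨Fin.lastCases (∑ i, c i * α i.castSucc x₁ - γ x₁) c, ?_, ?_⟩
      · intro i
        induction i using Fin.lastCases with
        | last =>
          simp only [Fin.lastCases_last]
          have : 0 ≤ ∑ i, c i * α i.castSucc x₁ :=
            Finset.sum_nonneg fun i _ => mul_nonneg (hc i) (h2 i)
          linarith
        | cast i => simpa using hc i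
      · rw [Fin.sum_univ_castSucc]
        simp only [Fin.lastCases_last, Fin.lastCases_castSucc]
        ext x
        have hx := LinearMap.congr_fun hγ' x
        simp only [γ', α', LinearMap.add_apply, LinearMap.sum_apply, LinearMap.smul_apply,
          smul_eq_mul, mul_add, Finset.sum_add_distrib] at hx
        simp only [LinearMap.add_apply, LinearMap.sum_apply, LinearMap.smul_apply, smul_eq_mul,
          sub_mul, Finset.sum_mul]
        have : ∀ i : Fin m, c i * (α i.castSucc x₁ * α (Fin.last m) x) =
            c i * α i.castSucc x₁ * α (Fin.last m) x := fun i => by ring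
        simp only [this] at hx
        linear_combination hx

/-- Separation of a point from the convex hull of a finite family, over a linearly ordered field. -/
theorem exists_linear_lt_of_notMem_convexHull {N : Type*} [AddCommGroup N] [Module F N]
    (k : ℕ) (p : Fin k → N) (y : N) (hy : y ∉ convexHull F (Set.range p)) :
    ∃ f : N →ₗ[F] F, ∀ j, f y < f (p j) := by
  by_contra hcon
  push Not at hcon
  -- functionals on V := (N →ₗ F) × F
  let α : Fin k → ((N →ₗ[F] F) × F) →ₗ[F] F := fun j =>
    (LinearMap.applyₗ (p j)).comp (LinearMap.fst F _ _) + LinearMap.snd F _ _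
  let γ : ((N →ₗ[F] F) × F) →ₗ[F] F :=
    (LinearMap.applyₗ y).comp (LinearMap.fst F _ _) + LinearMap.snd F _ _
  have hyp : ∀ x, (∀ i, 0 ≤ α i x) → 0 ≤ γ x := by
    rintro ⟨f, t⟩ hx
    by_contra hneg
    push Not at hneg
    obtain ⟨j, hj⟩ := hcon f
    have h1 := hx j
    simp only [α, γ, LinearMap.add_apply, LinearMap.comp_apply, LinearMap.fst_apply,
      LinearMap.snd_apply, LinearMap.applyₗ_apply_apply] at h1 hneg
    linarith
  obtain ⟨c, hc, hγ⟩ := farkas k α γ hyp
  have hsum : ∑ j, c j = 1 := by
    have := LinearMap.congr_fun hγ (0, 1)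
    simp only [α, γ, LinearMap.add_apply, LinearMap.comp_apply, LinearMap.fst_apply,
      LinearMap.snd_apply, LinearMap.applyₗ_apply_apply, LinearMap.zero_apply, zero_add,
      LinearMap.sum_apply, LinearMap.smul_apply, smul_eq_mul, mul_one] at this
    exact this.symm
  have hy' : y = ∑ j, c j • p j := by
    rw [← sub_eq_zero, ← Module.forall_dual_apply_eq_zero_iff F]
    intro f
    have := LinearMap.congr_fun hγ (f, 0)
    simp only [α, γ, LinearMap.add_apply, LinearMap.comp_apply, LinearMap.fst_apply,
      LinearMap.snd_apply, LinearMap.applyₗ_apply_apply, add_zero,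
      LinearMap.sum_apply, LinearMap.smul_apply, smul_eq_mul] at this
    rw [map_sub, map_sum, this, sub_eq_zero]
    simp
  apply hy
  rw [hy']
  exact (convex_convexHull F _).sum_mem (fun j _ => hc j) hsum
    (fun j _ => subset_convexHull F _ ⟨j, rfl⟩)

end Groth.Agent.Lib.Helper4.RootCh
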