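import Groth.Agent.Lib.Helper4.RootCh.DualFacet

set_option autoImplicit false
set_option linter.unusedSectionVars false
set_option linter.unusedVariables false

open Module RootCh

namespace Groth.Agent.Lib.Helper4.RootCh

variable {ι R M N : Type*} [Field R] [LinearOrder R] [IsStrictOrderedRing R]
  [AddCommGroup M] [Module R M] [AddCommGroup N] [Module R N]
  {P : RootPairing ι R M N} [P.IsRootSystem] [Finite ι] [P.IsCrystallographic] [P.IsReduced]

lemma reflBase_aux1 (b : P.Base) (i : ι) :
    LinearIndepOn R P.root (P.reflectionPerm i '' (b.support : Set ι)) := by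
  apply LinearIndepOn.image_of_comp
  have h : P.root ∘ P.reflectionPerm i = (P.reflection i).toLinearMap ∘ P.root := by
    funext j; simp [P.root_reflectionPerm]
  rw [h]
  exact b.linearIndepOn_root.map_injOn _ (P.reflection i).injective.injOn

lemma reflBase_aux2 (b : P.Base) (i : ι) (k : ι) :
    P.root k ∈ AddSubmonoid.closure (P.root '' (P.reflectionPerm i '' (b.support : Set ι))) ∨
    -P.root k ∈ AddSubmonoid.closure (P.root '' (P.reflectionPerm i '' (b.support : Set ι))) := by
  have himg : P.root '' (P.reflectionPerm i '' (b.support : Set ι)) =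
      ((P.reflection i).toLinearMap.toAddMonoidHom) '' (P.root '' (b.support : Set ι)) := by
    rw [Set.image_image, Set.image_image]
    exact Set.image_congr fun j _ => P.root_reflectionPerm i j
  have hk : P.root k = (P.reflection i).toLinearMap.toAddMonoidHom (P.root (P.reflectionPerm i k)) := by
    change P.root k = P.reflection i (P.root (P.reflectionPerm i k))
    rw [← P.root_reflectionPerm, P.reflectionPerm_self]
  rw [himg, ← AddMonoidHom.map_mclosure]
  rcases b.root_mem_or_neg_mem (P.reflectionPerm i k) with h | h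
  · left; rw [hk]; exact AddSubmonoid.mem_map_of_mem _ h
  · right; rw [hk, ← map_neg]; exact AddSubmonoid.mem_map_of_mem _ h

/-- the base reflected in the root `i` -/
noncomputable def reflBase (b : P.Base) (i : ι) : P.Base :=
  RootPairing.Base.mk' P (P.reflectionPerm i '' (b.support : Set ι)) (reflBase_aux1 b i)
    (reflBase_aux2 b i)

lemma mem_reflBase_support (b : P.Base) (i j : ι) :
    j ∈ (reflBase b i).support ↔ P.reflectionPerm i j ∈ b.support := by
  simp only [reflBase, RootPairing.Base.mk', Set.Finite.mem_toFinset, Set.mem_image,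
    Finset.mem_coe]
  constructor
  · rintro ⟨l, hl, rfl⟩; simpa using hl
  · intro h; exact ⟨_, h, by simp⟩

lemma reflection_mem_openChamber (b : P.Base) (i : ι) {ξ : M} (hξ : ξ ∈ openChamber b) :
    P.reflection i ξ ∈ openChamber (reflBase b i) := by
  intro j hj
  rw [P.coroot'_reflection]
  exact hξ _ ((mem_reflBase_support b i j).mp hj)

lemma reflection_mem_closedChamber (b : P.Base) (i : ι) {ξ : M} (hξ : ξ ∈ closedChamber b) :
    P.reflection i ξ ∈ closedChamber (reflBase b i) := by
  intro j hj
  rw [P.coroot'_reflection]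
  exact hξ _ ((mem_reflBase_support b i j).mp hj)

lemma isPos_reflBase_iff (b : P.Base) (i k : ι) :
    (reflBase b i).IsPos k ↔ b.IsPos (P.reflectionPerm i k) := by
  rw [isPos_iff_of_mem_openChamber (reflection_mem_openChamber b i (rho_mem_openChamber b)),
    isPos_iff_of_mem_openChamber (rho_mem_openChamber b), P.coroot'_reflection]

lemma not_isPos_reflectionPerm_self (b : P.Base) {i : ι} (hi : b.IsPos i) :
    ¬ b.IsPos (P.reflectionPerm i i) := by
  let _ := P.indexNeg
  intro h'
  exact ((RootPairing.Base.IsPos.neg_iff_not b i).mp h') hi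

/-- the positive roots of the base reflected in a simple root -/
lemma isPos_reflBase_simple (b : P.Base) {i : ι} (hi : i ∈ b.support) (k : ι) :
    (b.IsPos k ∧ ¬ (reflBase b i).IsPos k) ↔ k = i := by
  rw [isPos_reflBase_iff]
  constructor
  · rintro ⟨h1, h2⟩
    by_contra hne
    exact h2 (h1.reflectionPerm hi hne)
  · rintro rfl
    exact ⟨RootPairing.Base.isPos_of_mem_support hi,
      not_isPos_reflectionPerm_self b (RootPairing.Base.isPos_of_mem_support hi)⟩

lemma isPos_reflBase_of_ne (b : P.Base) {i : ι} (hi : i ∈ b.support) {k : ι}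
    (hk : k ≠ i) (hk' : k ≠ P.reflectionPerm i i) :
    (reflBase b i).IsPos k ↔ b.IsPos k := by
  rw [isPos_reflBase_iff]
  constructor
  · intro h
    have hne : P.reflectionPerm i k ≠ i := by
      intro e
      apply hk'
      have := congrArg (P.reflectionPerm i) e
      rwa [P.reflectionPerm_self] at this
    have := h.reflectionPerm hi hne
    simpa using this
  · intro h; exact h.reflectionPerm hi hk

lemma isPos_reflBase_neg (b : P.Base) {i : ι} (hi : i ∈ b.support) :
    (reflBase b i).IsPos (P.reflectionPerm i i) := by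
  rw [isPos_reflBase_iff]; simpa using RootPairing.Base.isPos_of_mem_support hi

lemma not_isPos_reflBase_self (b : P.Base) {i : ι} (hi : i ∈ b.support) :
    ¬ (reflBase b i).IsPos i := by
  rw [isPos_reflBase_iff]
  exact not_isPos_reflectionPerm_self b (RootPairing.Base.isPos_of_mem_support hi)

lemma reflectionPerm_mem_reflBase_support (b : P.Base) (i : ι) (j : b.support) :
    P.reflectionPerm i j ∈ (reflBase b i).support := by
  rw [mem_reflBase_support, P.reflectionPerm_self]; exact j.2

lemma fundWeight_reflBase (b : P.Base) (i : ι) (j : b.support) :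
    fundWeight (reflBase b i) ⟨P.reflectionPerm i j, reflectionPerm_mem_reflBase_support b i j⟩ =
      P.reflection i (fundWeight b j) := by
  classical
  apply ext_of_coroot' (reflBase b i)
  intro l hl
  have hl' : P.reflectionPerm i l ∈ b.support := (mem_reflBase_support b i l).mp hl
  rw [P.coroot'_reflection]
  have h1 := coroot'_fundWeight_eq_ite (reflBase b i) ⟨l, hl⟩
    ⟨P.reflectionPerm i j, reflectionPerm_mem_reflBase_support b i j⟩
  have h2 := coroot'_fundWeight_eq_ite b ⟨P.reflectionPerm i l, hl'⟩ j
  simp only at h1 h2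
  rw [h1, h2]
  have : ((⟨l, hl⟩ : (reflBase b i).support) =
      ⟨P.reflectionPerm i j, reflectionPerm_mem_reflBase_support b i j⟩) ↔
      ((⟨P.reflectionPerm i l, hl'⟩ : b.support) = j) := by
    rw [Subtype.ext_iff, Subtype.ext_iff]
    change l = P.reflectionPerm i j ↔ P.reflectionPerm i l = j
    constructor
    · intro e; rw [e, P.reflectionPerm_self]
    · intro e; rw [← e, P.reflectionPerm_self]
  simp only [this]

lemma reflection_fundWeight_self (b : P.Base) {i : ι} (hi : i ∈ b.support) :
    P.reflection i (fundWeight b ⟨i, hi⟩) = fundWeight b ⟨i, hi⟩ - P.root i := by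
  rw [P.reflection_apply, coroot'_fundWeight_self b ⟨i, hi⟩, one_smul]

lemma reflection_fundWeight_of_ne (b : P.Base) {i : ι} (hi : i ∈ b.support) (j : b.support)
    (hj : j ≠ ⟨i, hi⟩) : P.reflection i (fundWeight b j) = fundWeight b j := by
  rw [P.reflection_apply, coroot'_fundWeight_of_ne b j ⟨i, hi⟩ (Ne.symm hj), zero_smul, sub_zero]

lemma fundWeight_mem_baseCorners (b : P.Base) (j : b.support) : fundWeight b j ∈ baseCorners b :=
  ⟨⟨b, j, rfl⟩, fundWeight_mem_closedChamber b j⟩

/-- the fundamental weights at the other simple roots are corners of the reflected chamber -/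
lemma fundWeight_mem_baseCorners_reflBase (b : P.Base) {i : ι} (hi : i ∈ b.support) (j : b.support)
    (hj : j ≠ ⟨i, hi⟩) : fundWeight b j ∈ baseCorners (reflBase b i) := by
  classical
  have h := fundWeight_reflBase b i j
  rw [reflection_fundWeight_of_ne b hi j hj] at h
  rw [← h]
  exact fundWeight_mem_baseCorners _ _

lemma baseCorners_inter_reflBase (b : P.Base) {i : ι} (hi : i ∈ b.support) :
    baseCorners b ∩ baseCorners (reflBase b i) =
      (fundWeight b) '' {j : b.support | j ≠ ⟨i, hi⟩} := by
  classical
  ext w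
  constructor
  · rintro ⟨h1, h2⟩
    rw [baseCorners_eq] at h1 h2
    obtain ⟨j, rfl⟩ := h1
    refine ⟨j, ?_, rfl⟩
    rintro rfl
    obtain ⟨⟨l, hl⟩, hw⟩ := h2
    have hl' : P.reflectionPerm i l ∈ b.support := (mem_reflBase_support b i l).mp hl
    have h3 := fundWeight_reflBase b i ⟨P.reflectionPerm i l, hl'⟩
    simp only [P.reflectionPerm_self] at h3
    rw [h3] at hw
    by_cases h : (⟨P.reflectionPerm i l, hl'⟩ : b.support) = ⟨i, hi⟩
    · rw [h, reflection_fundWeight_self b hi] at hw
      have h4 := congrArg (P.coroot' i) hw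
      rw [map_sub, coroot'_fundWeight_self b ⟨i, hi⟩] at h4
      have h6 : P.coroot' i (P.root i) = 2 := P.root_coroot_two i
      rw [h6] at h4
      norm_num at h4
    · rw [reflection_fundWeight_of_ne b hi _ h] at hw
      exact h (fundWeight_injective b hw)
  · rintro ⟨j, hj, rfl⟩
    exact ⟨fundWeight_mem_baseCorners b j, fundWeight_mem_baseCorners_reflBase b hi j hj⟩

lemma ncard_baseCorners_inter_reflBase (b : P.Base) {i : ι} (hi : i ∈ b.support) :
    (baseCorners b ∩ baseCorners (reflBase b i)).ncard + 1 = b.support.card := by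
  rw [baseCorners_inter_reflBase b hi, Set.ncard_image_of_injective _ (fundWeight_injective b)]
  have h1 : (⟨i, hi⟩ : b.support) ∉ {j : b.support | j ≠ ⟨i, hi⟩} := fun h => h rfl
  rw [← Set.ncard_insert_of_notMem h1]
  have h2 : insert (⟨i, hi⟩ : b.support) {j : b.support | j ≠ ⟨i, hi⟩} = Set.univ := by
    ext j; simp [em]
  rw [h2, Set.ncard_univ, Nat.card_eq_fintype_card, Fintype.card_coe]

end Groth.Agent.Lib.Helper4.RootCh
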