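import Groth.Prelude.Def_RootCh2
import Groth.Agent.Lib.Helper4.RootCh.Reflect

set_option autoImplicit false
set_option linter.unusedSectionVars false
set_option linter.unusedVariables false

open Module RootCh

namespace Groth.Agent.Lib.Helper4.RootCh

variable {ι R M N : Type*} [Field R] [LinearOrder R] [IsStrictOrderedRing R]
  [AddCommGroup M] [Module R M] [AddCommGroup N] [Module R N]
  {P : RootPairing ι R M N} [P.IsRootSystem] [Finite ι] [P.IsCrystallographic] [P.IsReduced]
  {d : P.Base → N}

lemma pair_eq_sum_fundWeight (b : P.Base) (m : M) (x : N) :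
    P.toLinearMap m x = ∑ j : b.support, P.coroot' j m * P.toLinearMap (fundWeight b j) x := by
  conv_lhs => rw [eq_sum_fundWeight b m]
  rw [map_sum, LinearMap.sum_apply]
  refine Finset.sum_congr rfl fun j _ => ?_
  rw [map_smul, LinearMap.smul_apply, smul_eq_mul]

/-- two chambers containing `m` give the same pairing (B1 only) -/
lemma pair_eq_of_mem_closedChamber (hd : IsCCS d) {m : M} {b₁ b₂ : P.Base}
    (h₁ : m ∈ closedChamber b₁) (h₂ : m ∈ closedChamber b₂) :
    P.toLinearMap m (d b₁) = P.toLinearMap m (d b₂) := by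
  rw [pair_eq_sum_fundWeight b₁ m (d b₁), pair_eq_sum_fundWeight b₁ m (d b₂)]
  refine Finset.sum_congr rfl fun j _ => ?_
  rcases (h₁ j j.2).eq_or_lt with h0 | h0
  · rw [← h0, zero_mul, zero_mul]
  · congr 1
    have hb₁ : b₁ ∈ (Facet.ofVec P m).cham := mem_ofVec_cham h₁
    have hb₂ : b₂ ∈ (Facet.ofVec P m).cham := mem_ofVec_cham h₂
    have hc : fundWeight b₁ j ∈ (Facet.ofVec P m).corners :=
      (fundWeight_mem_corners_iff hb₁ j).mpr (by rw [ofVec_sgn]; exact sign_pos h0)
    exact hd.corner_eq b₁ b₂ _ (fundWeight_mem_baseCorners b₁ j)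
      ⟨hc.1, closure_subset_closedChamber hb₂ hc.2⟩

/-- crossing a wall changes `d` by a non-negative multiple of the simple coroot -/
lemma adjacent_step (hd : IsCCS d) (b : P.Base) {i : ι} (hi : i ∈ b.support) :
    ∃ t : R, 0 ≤ t ∧ d (reflBase b i) = d b + t • P.coroot i := by
  classical
  set x := d (reflBase b i) - d b with hx
  have h1 : ∀ j : b.support, j ≠ ⟨i, hi⟩ → P.toLinearMap (fundWeight b j) x = 0 := by
    intro j hj
    rw [hx, map_sub, sub_eq_zero]
    exact (hd.corner_eq b (reflBase b i) _ (fundWeight_mem_baseCorners b j)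
      (fundWeight_mem_baseCorners_reflBase b hi j hj)).symm
  have h2 : x = P.toLinearMap (fundWeight b ⟨i, hi⟩) x • P.coroot i := by
    conv_lhs => rw [eq_sum_pair_fundWeight b x]
    rw [Finset.sum_eq_single ⟨i, hi⟩]
    · intro j _ hj; rw [h1 j hj, zero_smul]
    · intro h; exact absurd (Finset.mem_univ _) h
  refine ⟨P.toLinearMap (fundWeight b ⟨i, hi⟩) x, ?_, ?_⟩
  · have h3 := hd.wall_le b (reflBase b i) i (ncard_baseCorners_inter_reflBase b hi)
      (isPos_reflBase_simple b hi)
    have h4 : P.root' i x = P.toLinearMap (fundWeight b ⟨i, hi⟩) x * 2 := by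
      conv_lhs => rw [h2]
      rw [map_smul, smul_eq_mul]
      congr 1
      exact P.root_coroot_two i
    have h5 : 0 ≤ P.root' i x := by
      rw [hx, map_sub]; linarith
    linarith
  · rw [← h2, hx]; abel

theorem gallery (hd : IsCCS d) (m : M) (b : P.Base) :
    ∃ b₁ : P.Base, m ∈ closedChamber b₁ ∧ P.toLinearMap m (d b₁) ≤ P.toLinearMap m (d b) ∧
      (P.toLinearMap m (d b₁) = P.toLinearMap m (d b) → d b₁ = d b) := by
  induction h : Set.ncard {k | b.IsPos k ∧ P.coroot' k m < 0} using Nat.strong_induction_on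
    generalizing b with
  | _ n ih =>
    by_cases hall : ∀ i ∈ b.support, 0 ≤ P.coroot' i m
    · exact ⟨b, hall, le_rfl, fun _ => rfl⟩
    · push Not at hall
      obtain ⟨i, hi, hneg⟩ := hall
      have hsub : {k | (reflBase b i).IsPos k ∧ P.coroot' k m < 0} ⊂
          {k | b.IsPos k ∧ P.coroot' k m < 0} := by
        constructor
        · rintro k ⟨hk1, hk2⟩
          have hki : k ≠ i := fun e => not_isPos_reflBase_self b hi (e ▸ hk1)
          have hki' : k ≠ P.reflectionPerm i i := by
            rintro rfl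
            rw [coroot'_reflectionPerm_self] at hk2
            linarith
          exact ⟨(isPos_reflBase_of_ne b hi hki hki').mp hk1, hk2⟩
        · intro hcon
          have : i ∈ {k | (reflBase b i).IsPos k ∧ P.coroot' k m < 0} :=
            hcon ⟨RootPairing.Base.isPos_of_mem_support hi, hneg⟩
          exact not_isPos_reflBase_self b hi this.1
      have hlt := Set.ncard_lt_ncard hsub (Set.toFinite _)
      rw [h] at hlt
      obtain ⟨b₁, hb₁, hle, heq⟩ := ih _ hlt (reflBase b i) rfl
      obtain ⟨t, ht, hstep⟩ := adjacent_step hd b hi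
      have h1 : P.toLinearMap m (d (reflBase b i)) =
          P.toLinearMap m (d b) + t * P.coroot' i m := by
        rw [hstep, map_add, map_smul, smul_eq_mul]; rfl
      have h2 : t * P.coroot' i m ≤ 0 := mul_nonpos_of_nonneg_of_nonpos ht hneg.le
      refine ⟨b₁, hb₁, by linarith, fun he => ?_⟩
      have h3 : t * P.coroot' i m = 0 := by linarith
      have ht0 : t = 0 := by
        rcases mul_eq_zero.mp h3 with h4 | h4
        · exact h4
        · exact absurd h4 hneg.ne
      have h4 : d (reflBase b i) = d b := by rw [hstep, ht0, zero_smul, add_zero]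
      rw [← h4]
      apply heq
      rw [h1, ht0, zero_mul, add_zero, he]

theorem pair_le_of_mem_closedChamber (hd : IsCCS d) {m : M} {b₀ : P.Base}
    (h : m ∈ closedChamber b₀) (b : P.Base) :
    P.toLinearMap m (d b₀) ≤ P.toLinearMap m (d b) := by
  obtain ⟨b₁, hb₁, hle, -⟩ := gallery hd m b
  rw [pair_eq_of_mem_closedChamber hd h hb₁]
  exact hle

theorem exists_of_pair_eq (hd : IsCCS d) {m : M} {b₀ : P.Base}
    (h : m ∈ closedChamber b₀) (b : P.Base)
    (he : P.toLinearMap m (d b) = P.toLinearMap m (d b₀)) :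
    ∃ b₁ : P.Base, m ∈ closedChamber b₁ ∧ d b₁ = d b := by
  obtain ⟨b₁, hb₁, -, heq⟩ := gallery hd m b
  refine ⟨b₁, hb₁, heq ?_⟩
  rw [he, pair_eq_of_mem_closedChamber hd hb₁ h]

end Groth.Agent.Lib.Helper4.RootCh
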