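import Groth.Agent.Lib.Helper4.RootCh.Special

set_option autoImplicit false
set_option linter.unusedSectionVars false
set_option linter.unusedVariables false

open Module RootCh

namespace Groth.Agent.Lib.Helper4.RootCh

variable {ι R M N : Type*} [Field R] [LinearOrder R] [IsStrictOrderedRing R]
  [AddCommGroup M] [Module R M] [AddCommGroup N] [Module R N]
  {P : RootPairing ι R M N} [P.IsRootSystem] [Finite ι] [P.IsCrystallographic] [P.IsReduced]
  {d : P.Base → N}

lemma le_of_parab_subset {F G : Facet P} (h : G.parab ⊆ F.parab) : G ≤ F := by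
  intro i
  have h1 : G.sgn i ≠ -1 → F.sgn i ≠ -1 := fun hi => h hi
  have h2 : G.sgn (P.reflectionPerm i i) ≠ -1 → F.sgn (P.reflectionPerm i i) ≠ -1 := fun hi => h hi
  rw [Facet.sgn_reflectionPerm_self, Facet.sgn_reflectionPerm_self] at h2
  generalize F.sgn i = s at h1 h2 ⊢
  generalize G.sgn i = t at h1 h2 ⊢
  cases s <;> cases t <;> simp_all

lemma parab_subset_of_le {F G : Facet P} (h : G ≤ F) : G.parab ⊆ F.parab := by
  intro i hi
  have hi' : G.sgn i ≠ -1 := hi
  change F.sgn i ≠ -1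
  rcases h i with h0 | h0
  · rw [h0]; decide
  · rw [h0]; exact hi'

omit [AddCommGroup M] [Module R M] [AddCommGroup N] [Module R N] [Finite ι] in
lemma sum_le_sum_nonneg_part (x : ι → R) (A B : Finset ι) (hB : ∀ k, k ∈ B ↔ 0 ≤ x k) :
    ∑ k ∈ A, x k ≤ ∑ k ∈ B, x k ∧ (∑ k ∈ A, x k = ∑ k ∈ B, x k → A ⊆ B) := by
  classical
  have hA := Finset.sum_inter_add_sum_sdiff A B x
  have hB' := Finset.sum_inter_add_sum_sdiff B A x
  rw [Finset.inter_comm] at hB'
  have h1 : ∀ k ∈ A \ B, x k < 0 := fun k hk => by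
    have := (Finset.mem_sdiff.mp hk).2
    rw [hB] at this
    exact not_le.mp this
  have h2 : 0 ≤ ∑ k ∈ B \ A, x k :=
    Finset.sum_nonneg fun k hk => (hB k).mp (Finset.mem_sdiff.mp hk).1
  have h3 : ∑ k ∈ A \ B, x k ≤ 0 := Finset.sum_nonpos fun k hk => (h1 k hk).le
  refine ⟨by linarith, fun he => ?_⟩
  intro k hk
  by_contra hkB
  have : ∑ k ∈ A \ B, x k < 0 :=
    Finset.sum_neg' (fun k hk => (h1 k hk).le)
      ⟨k, Finset.mem_sdiff.mpr ⟨hk, hkB⟩, h1 k (Finset.mem_sdiff.mpr ⟨hk, hkB⟩)⟩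
  linarith

omit [P.IsCrystallographic] [P.IsReduced] in
lemma pair_sigma (F : Facet P) (y : N) :
    P.toLinearMap (sigma F) y = ∑ k ∈ (Set.toFinite F.parab).toFinset, P.root' k y := by
  rw [sigma, map_sum, LinearMap.sum_apply]

omit [P.IsCrystallographic] [P.IsReduced] in
lemma dualSolid_subset_solid (d : P.Base → N) (F : Facet P) : dualSolid d F ⊆ solid d :=
  convexHull_mono (Set.image_subset_range d F.cham)

/-- the degree of a facet is at most the pairing of its `sigma` with any point of the solid -/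
lemma deg_le_pair_of_mem_solid (hd : IsCCS d) (G : Facet P) {c : P.Base} (hc : c ∈ G.cham)
    {y : N} (hy : y ∈ solid d) : G.deg d c ≤ P.toLinearMap (sigma G) y := by
  rw [deg_eq_pair]
  have hconv : Convex R {w : N | P.toLinearMap (sigma G) (d c) ≤ P.toLinearMap (sigma G) w} :=
    convex_halfSpace_ge (P.toLinearMap (sigma G)).isLinear _
  have hsub : Set.range d ⊆ {w : N | P.toLinearMap (sigma G) (d c) ≤ P.toLinearMap (sigma G) w} := by
    rintro _ ⟨b', rfl⟩
    exact pair_le_of_mem_closedChamber hd (hc (sigma_mem_carrier G)) b'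
  exact convexHull_min hsub hconv hy

lemma deg_eq_pair_of_special (hd : IsCCS d) (F : Facet P) {b : P.Base} (hb : b ∈ F.cham)
    {y₁ : N} (hy₁ : y₁ ∈ dualSolid d F) : F.deg d b = P.toLinearMap (sigma F) y₁ := by
  rw [deg_eq_pair]
  apply pair_eq_of_mem_span (S := F.corners) _
    (mem_span_corners_of_mem_carrier (sigma_mem_carrier F))
  intro m hm
  have := (dualSolid_subset hd F hy₁).1
  simp only [Set.mem_iInter, hyper, Set.mem_ofPred_eq] at this
  exact (this m hm b (corners_subset_baseCorners hb hm)).symm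

theorem isGreatest_of_isSpecial (hd : IsCCS d) (F : Facet P) (b : P.Base) (hb : b ∈ F.cham)
    (hF : IsSpecial d F) :
    (∀ (G : Facet P) (c : P.Base), c ∈ G.cham → G.deg d c ≤ F.deg d b) ∧
      ∀ (G : Facet P) (c : P.Base), c ∈ G.cham → G.deg d c = F.deg d b → G ≤ F := by
  obtain ⟨y₁, hy1, hy2⟩ := hF
  have hB : ∀ k, k ∈ (Set.toFinite F.parab).toFinset ↔ 0 ≤ P.root' k y₁ := by
    intro k
    have h1 : cosgnVec P y₁ = F.sgn := hy1
    simp only [Set.Finite.mem_toFinset, Facet.parab, Set.mem_ofPred_eq, ← h1, cosgnVec, ne_eq,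
      sign_eq_neg_one_iff, not_lt]
  have hFdeg := deg_eq_pair_of_special hd F hb hy2
  rw [pair_sigma] at hFdeg
  have hG : ∀ (G : Facet P) (c : P.Base), c ∈ G.cham →
      G.deg d c ≤ ∑ k ∈ (Set.toFinite G.parab).toFinset, P.root' k y₁ := by
    intro G c hc
    rw [← pair_sigma]
    exact deg_le_pair_of_mem_solid hd G hc (dualSolid_subset_solid d F hy2)
  constructor
  · intro G c hc
    rw [hFdeg]
    exact (hG G c hc).trans (sum_le_sum_nonneg_part _ _ _ hB).1
  · intro G c hc he
    apply le_of_parab_subset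
    have h1 := hG G c hc
    have h2 := sum_le_sum_nonneg_part (fun k => P.root' k y₁) (Set.toFinite G.parab).toFinset _ hB
    have h3 : ∑ k ∈ (Set.toFinite G.parab).toFinset, P.root' k y₁ =
        ∑ k ∈ (Set.toFinite F.parab).toFinset, P.root' k y₁ := by
      apply le_antisymm h2.1
      rw [← hFdeg, ← he]; exact h1
    intro k hk
    have := h2.2 h3 ((Set.Finite.mem_toFinset _).mpr hk)
    exact (Set.Finite.mem_toFinset _).mp this

end Groth.Agent.Lib.Helper4.RootCh
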