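import Groth.Agent.Lib.Helper4.RootCh.SpecialIff
import Mathlib.LinearAlgebra.FiniteDimensional.Basic
import Mathlib.Order.Preorder.Finite

set_option autoImplicit false
set_option linter.unusedSectionVars false
set_option linter.unusedVariables false

open Module RootCh

namespace Groth.Agent.Lib.Helper4.RootCh

variable {ι R M N : Type*} [Field R] [LinearOrder R] [IsStrictOrderedRing R]
  [AddCommGroup M] [Module R M] [AddCommGroup N] [Module R N]
  {P : RootPairing ι R M N} [P.IsRootSystem] [Finite ι] [P.IsCrystallographic] [P.IsReduced]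
  {d : P.Base → N}

/-- a vector of the closed chamber whose support is contained in that of a vector of the facet
lies in the closure of the facet -/
lemma mem_closure_of_pattern {F : Facet P} {b : P.Base} (hb : b ∈ F.cham) {ξ : M}
    (hξ : ξ ∈ F.carrier) {η : M} (hη : η ∈ closedChamber b)
    (h : ∀ l : b.support, P.coroot' l η ≠ 0 → P.coroot' l ξ ≠ 0) : η ∈ F.closure := by
  have hξ' : sgnVec P ξ = F.sgn := hξ
  have hξc : ξ ∈ closedChamber b := hb hξ
  apply mem_closure_of_forall_isPos F b
  intro k hk
  rcases (coroot'_nonneg_of_mem_closedChamber hη hk).eq_or_lt with h0 | h0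
  · left; rw [sgnVec_eq_zero_iff]; exact h0.symm
  · right
    rw [(sgnVec_eq_one_iff η k).mpr h0, ← hξ', eq_comm, sgnVec_eq_one_iff]
    have : ∃ l : b.support, P.coroot' k (fundWeight b l) * P.coroot' l η ≠ 0 := by
      by_contra hc; push Not at hc
      rw [coroot'_eq_sum b, Finset.sum_eq_zero (fun l _ => hc l)] at h0
      exact lt_irrefl _ h0
    obtain ⟨l, hl⟩ := this
    have hl1 : 0 < P.coroot' k (fundWeight b l) :=
      lt_of_le_of_ne (coroot'_fundWeight_nonneg hk l) (Ne.symm (left_ne_zero_of_mul hl))
    have hl2 : 0 < P.coroot' l ξ :=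
      lt_of_le_of_ne (hξc l l.2) (Ne.symm (h l (right_ne_zero_of_mul hl)))
    rw [coroot'_eq_sum b]
    calc 0 < P.coroot' k (fundWeight b l) * P.coroot' l ξ := mul_pos hl1 hl2
      _ ≤ _ := Finset.single_le_sum
        (f := fun l : b.support => P.coroot' k (fundWeight b l) * P.coroot' l ξ)
        (fun l _ => mul_nonneg (coroot'_fundWeight_nonneg hk l) (hξc l l.2)) (Finset.mem_univ l)

/-- comparison of the pairings of the `sigma`s of two facets with nested parabolic sets -/
lemma pair_sigma_eq_add {F G : Facet P} (h : F.parab ⊆ G.parab) (y : N) :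
    P.toLinearMap (sigma G) y = P.toLinearMap (sigma F) y +
      ∑ k ∈ (Set.toFinite G.parab).toFinset.filter (fun k => F.sgn k = -1), P.root' k y := by
  rw [pair_sigma, pair_sigma,
    ← Finset.sum_filter_add_sum_filter_not (Set.toFinite G.parab).toFinset (fun k => F.sgn k = -1),
    add_comm]
  congr 1
  apply Finset.sum_congr _ (fun _ _ => rfl)
  ext k
  simp only [Finset.mem_filter, Set.Finite.mem_toFinset]
  constructor
  · rintro ⟨-, hk⟩; exact hk
  · intro hk; exact ⟨h hk, hk⟩

lemma exists_mem_yLocus (hd : IsCCS d) (F : Facet P) : (yLocus d F).Nonempty := by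
  classical
  obtain ⟨b, hb⟩ := Facet.cham_nonempty F
  let J₁ := {j : b.support // F.sgn j = 1}
  let v : J₁ → N := fun j => fundCoweight b j.1
  let T : (J₁ → R) →ₗ[R] (J₁ → R) :=
    LinearMap.pi fun i => (P.toLinearMap (fundWeight b i.1)).comp (Fintype.linearCombination R v)
  have hTapp : ∀ t i, T t i = P.toLinearMap (fundWeight b i.1) (∑ j, t j • v j) := fun t i => rfl
  have hvmem : ∀ t : J₁ → R, (∑ j, t j • v j) ∈ Submodule.span R F.dualCarrier := by
    intro t
    rw [span_dualCarrier hb]
    exact Submodule.sum_mem _ fun j _ => Submodule.smul_mem _ _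
      (Submodule.subset_span ⟨j.1, j.2, rfl⟩)
  have hinj : Function.Injective T := by
    rw [injective_iff_map_eq_zero]
    intro t ht
    have hz : (∑ j, t j • v j) = 0 := by
      apply eq_zero_of_mem_span_dualCarrier F (hvmem t)
      intro m hm
      rw [corners_eq hb] at hm
      obtain ⟨i, hi, rfl⟩ := hm
      have := congrFun ht ⟨i, hi⟩
      rw [hTapp] at this
      exact this
    funext i
    have := congrArg (P.root' i.1) hz
    rw [map_sum, map_zero, Finset.sum_eq_single i] at this
    · rw [map_smul, smul_eq_mul] at this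
      have h1 : P.root' i.1 (v i) = 1 := root'_fundCoweight_self b i.1
      rw [h1, mul_one] at this
      exact this
    · intro j _ hj
      rw [map_smul, smul_eq_mul]
      have : P.root' i.1 (v j) = 0 :=
        root'_fundCoweight_of_ne b j.1 i.1 (fun e => hj (Subtype.ext e).symm)
      rw [this, mul_zero]
    · intro h; exact absurd (Finset.mem_univ _) h
  obtain ⟨t, ht⟩ := LinearMap.surjective_of_injective hinj
    (fun i : J₁ => P.toLinearMap (fundWeight b i.1) (d b))
  refine ⟨∑ j, t j • v j, ?_, hvmem t⟩
  simp only [Set.mem_iInter, hyper, Set.mem_ofPred_eq]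
  intro m hm b' hb'
  have hm' := hm
  rw [corners_eq hb] at hm'
  obtain ⟨i, hi, rfl⟩ := hm'
  have := congrFun ht ⟨i, hi⟩
  rw [hTapp] at this
  rw [this]
  exact hd.corner_eq b b' _ (corners_subset_baseCorners hb hm) hb'

omit [Finite ι] [P.IsCrystallographic] [P.IsReduced] [P.IsRootSystem] in
lemma ofVec_eq_of_mem_carrier {F : Facet P} {ξ : M} (hξ : ξ ∈ F.carrier) : Facet.ofVec P ξ = F :=
  Facet.ext hξ

theorem isSpecial_of_maximal (hd : IsCCS d) (F : Facet P) (b : P.Base) (hb : b ∈ F.cham)
    (hmax : ∀ (G : Facet P) (c : P.Base), c ∈ G.cham → G.deg d c ≤ F.deg d b)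
    (hmaxl : ∀ (G : Facet P) (c : P.Base), c ∈ G.cham → G.deg d c = F.deg d b → F ≤ G → G = F) :
    IsSpecial d F := by
  classical
  obtain ⟨y, hy⟩ := exists_mem_yLocus hd F
  have hyh : ∀ m ∈ F.corners, ∀ b' : P.Base, m ∈ baseCorners b' →
      P.toLinearMap m y = P.toLinearMap m (d b') := by
    have := hy.1
    simpa only [Set.mem_iInter, hyper, Set.mem_ofPred_eq] using this
  have hys : y ∈ Submodule.span R F.dualCarrier := hy.2
  obtain ⟨ξ, hξ⟩ := F.exists_sgnVec_eq
  have hξF : ξ ∈ F.carrier := hξ
  have hdegF : ∀ c ∈ F.cham, F.deg d c = P.toLinearMap (sigma F) y := by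
    intro c hc
    rw [deg_eq_pair]
    apply pair_eq_of_mem_span (S := F.corners) _
      (mem_span_corners_of_mem_carrier (sigma_mem_carrier F))
    intro m hm
    exact (hyh m hm c (corners_subset_baseCorners hc hm)).symm
  refine ⟨y, ?_, ?_⟩
  · -- y lies in the dual facet
    rw [mem_dualCarrier_iff hb]
    intro i
    rcases sgn_simple_eq_zero_or_one hb i with h0 | h1
    · rw [h0, root'_eq_zero_of_mem_span_dualCarrier h0 hys, sign_zero]
    rw [h1]
    apply sign_pos
    set η := ξ - P.coroot' i ξ • fundWeight b i with hη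
    have hcoef : ∀ l : b.support, P.coroot' l η = if l = i then 0 else P.coroot' l ξ := by
      intro l
      rw [hη, map_sub, map_smul, smul_eq_mul, coroot'_fundWeight_eq_ite b l i]
      split_ifs with h
      · subst h; ring
      · ring
    have hηc : η ∈ closedChamber b := by
      intro l hl
      have := hcoef ⟨l, hl⟩
      simp only at this
      rw [this]
      split_ifs
      · exact le_rfl
      · exact hb hξF l hl
    set G := Facet.ofVec P η with hG
    have hbG : b ∈ G.cham := mem_ofVec_cham hηc
    have hle : F ≤ G := by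
      have := mem_closure_of_pattern hb hξF hηc (fun l hl => by
        rw [hcoef l] at hl
        split_ifs at hl with h
        · exact absurd rfl hl
        · exact hl)
      exact fun k => this k
    have hne : G ≠ F := by
      intro e
      have : G.sgn i = 0 := by
        rw [hG, ofVec_sgn, hcoef i, if_pos rfl, sign_zero]
      rw [e, h1] at this
      exact absurd this (by decide)
    have hlt : G.deg d b < F.deg d b :=
      lt_of_le_of_ne (hmax G b hbG) (fun e => hne (hmaxl G b hbG e hle))
    have hsub : G.corners ⊆ F.corners := by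
      rw [corners_eq hbG, corners_eq hb]
      rintro w ⟨l, hl, rfl⟩
      refine ⟨l, ?_, rfl⟩
      rw [hG, ofVec_sgn, hcoef l, sign_eq_one_iff] at hl
      split_ifs at hl with h
      · exact absurd hl (lt_irrefl _)
      · rw [← hξ, sgnVec_eq_one_iff]; exact hl
    have hdegG : G.deg d b = P.toLinearMap (sigma G) y := by
      rw [deg_eq_pair]
      apply pair_eq_of_mem_span (S := G.corners) _
        (mem_span_corners_of_mem_carrier (sigma_mem_carrier G))
      intro m hm
      exact (hyh m (hsub hm) b (corners_subset_baseCorners hb (hsub hm))).symm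
    rw [hdegG, hdegF b hb, pair_sigma_eq_add (parab_subset_of_le hle) y] at hlt
    have hterm : ∀ k ∈ (Set.toFinite G.parab).toFinset.filter (fun k => F.sgn k = -1),
        P.root' k y = P.root' k (fundCoweight b i) * P.root' i y := by
      intro k hk
      obtain ⟨hk1, hk2⟩ := Finset.mem_filter.mp hk
      have hk1' : G.sgn k ≠ -1 := (Set.Finite.mem_toFinset _).mp hk1
      have hGk : G.sgn k = 0 := by
        rcases hle k with h | h
        · exact h
        · rw [h] at hk1'; exact absurd hk2 hk1'
      have h := pair_eq_sum' b (P.root k) y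
      rw [Finset.sum_eq_single i] at h
      · exact h
      · intro l _ hl
        rcases sgn_simple_eq_zero_or_one hb l with hl0 | hl1
        · rw [root'_eq_zero_of_mem_span_dualCarrier hl0 hys, mul_zero]
        · have hGl : G.sgn l = 1 := by
            rw [hG, ofVec_sgn, hcoef l, if_neg hl, sign_eq_one_iff, ← sgnVec_eq_one_iff, hξ]
            exact hl1
          have : P.toLinearMap (P.root k) (fundCoweight b l) = 0 :=
            root'_fundCoweight_eq_zero_of_sgn hbG hGk hGl
          rw [this, zero_mul]
      · intro h'; exact absurd (Finset.mem_univ _) h'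
    rw [Finset.sum_congr rfl hterm, ← Finset.sum_mul] at hlt
    have hsum : ∑ k ∈ (Set.toFinite G.parab).toFinset.filter (fun k => F.sgn k = -1),
        P.root' k (fundCoweight b i) ≤ 0 := by
      refine Finset.sum_nonpos fun k hk => ?_
      obtain ⟨-, hk2⟩ := Finset.mem_filter.mp hk
      apply root'_fundCoweight_nonpos
      intro hpos
      rcases sgn_of_isPos hb hpos with h | h <;> rw [h] at hk2 <;> exact absurd hk2 (by decide)
    by_contra hcon; push Not at hcon
    have := mul_nonneg_of_nonpos_of_nonpos hsum hcon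
    linarith
  · -- y lies in the dual solid
    rw [dualSolid_eq hd]
    refine ⟨hy.1, ?_⟩
    simp only [Set.mem_iInter, halfClosed, Set.mem_ofPred_eq]
    intro m hm b' hb'
    simp only [Facet.corners', Set.mem_iUnion] at hm
    obtain ⟨b₂, hb₂, hmb₂⟩ := hm
    rw [hd.corner_eq b' b₂ m hb' hmb₂]
    have hmb₂' := hmb₂
    rw [baseCorners_eq] at hmb₂'
    obtain ⟨j, rfl⟩ := hmb₂'
    rcases sgn_simple_eq_zero_or_one hb₂ j with hj0 | hj1
    swap
    · exact (hyh _ ((fundWeight_mem_corners_iff hb₂ j).mpr hj1) b₂ hmb₂).ge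
    have hξc : ξ ∈ closedChamber b₂ := hb₂ hξF
    have hζc : ξ + fundWeight b₂ j ∈ closedChamber b₂ := by
      intro l hl
      rw [map_add]
      exact add_nonneg (hξc l hl) (fundWeight_mem_closedChamber b₂ j l hl)
    set G := Facet.ofVec P (ξ + fundWeight b₂ j) with hG
    have hbG : b₂ ∈ G.cham := mem_ofVec_cham hζc
    have hcoef : ∀ l : b₂.support, P.coroot' l (ξ + fundWeight b₂ j) =
        P.coroot' l ξ + if l = j then 1 else 0 := by
      intro l
      rw [map_add, coroot'_fundWeight_eq_ite b₂ l j]
    have hle : G ≤ F := by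
      have := mem_closure_of_pattern hbG (mem_ofVec_carrier _) hξc (fun l hl => by
        rw [hcoef l]
        have h0 : 0 ≤ P.coroot' l ξ := hξc l l.2
        have : 0 < P.coroot' l ξ := lt_of_le_of_ne h0 (Ne.symm hl)
        split_ifs <;> linarith)
      intro k
      rw [← hξ]
      exact this k
    have hdeg : G.deg d b₂ ≤ F.deg d b₂ := by
      rw [deg_eq_of_mem_cham hd F hb₂ hb]; exact hmax G b₂ hbG
    rw [deg_eq_pair, deg_eq_pair] at hdeg
    have hpy : P.toLinearMap (sigma F) y = P.toLinearMap (sigma G) y := by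
      rw [pair_sigma_eq_add (parab_subset_of_le hle) y, add_eq_left]
      refine Finset.sum_eq_zero fun k hk => ?_
      obtain ⟨hk1, hk2⟩ := Finset.mem_filter.mp hk
      have hk1' : F.sgn k ≠ -1 := (Set.Finite.mem_toFinset _).mp hk1
      have hFk : F.sgn k = 0 := by
        rcases hle k with h | h
        · exact h
        · rw [h] at hk1'; exact absurd hk2 hk1'
      exact root'_eq_zero_of_mem_span_dualCarrier hFk hys
    -- expand in the fundamental weights of b₂
    have hG_l : ∀ l : b₂.support, l ≠ j → F.sgn l ≠ 1 → P.coroot' l (sigma G) = 0 := by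
      intro l hlj hl
      apply (coroot'_simple_of_mem_carrier hbG (sigma_mem_carrier G) l).2
      rw [hG, ofVec_sgn, hcoef l, if_neg hlj, add_zero,
        (coroot'_simple_of_mem_carrier hb₂ hξF l).2 hl, sign_zero]
      decide
    have hF_l : ∀ l : b₂.support, F.sgn l ≠ 1 → P.coroot' l (sigma F) = 0 :=
      fun l hl => (coroot'_simple_of_mem_carrier hb₂ (sigma_mem_carrier F) l).2 hl
    have hGj : 0 < P.coroot' j (sigma G) := by
      apply (coroot'_simple_of_mem_carrier hbG (sigma_mem_carrier G) j).1
      rw [hG, ofVec_sgn, hcoef j, if_pos rfl, sign_eq_one_iff]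
      have : 0 ≤ P.coroot' j ξ := hξc j j.2
      linarith
    have hexp : ∀ x : N, P.toLinearMap (sigma G) x - P.toLinearMap (sigma F) x =
        ∑ l : b₂.support, (P.coroot' l (sigma G) - P.coroot' l (sigma F)) *
          P.toLinearMap (fundWeight b₂ l) x := by
      intro x
      rw [pair_eq_sum_fundWeight b₂ (sigma G) x, pair_eq_sum_fundWeight b₂ (sigma F) x,
        ← Finset.sum_sub_distrib]
      exact Finset.sum_congr rfl fun l _ => by ring
    have hkey : (P.toLinearMap (sigma G) (d b₂) - P.toLinearMap (sigma F) (d b₂)) -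
        (P.toLinearMap (sigma G) y - P.toLinearMap (sigma F) y) =
        P.coroot' j (sigma G) * (P.toLinearMap (fundWeight b₂ j) (d b₂) -
          P.toLinearMap (fundWeight b₂ j) y) := by
      rw [hexp, hexp, ← Finset.sum_sub_distrib, Finset.sum_eq_single j]
      · rw [hF_l j (by rw [hj0]; decide)]; ring
      · intro l _ hlj
        by_cases hl : F.sgn l = 1
        · rw [hyh _ ((fundWeight_mem_corners_iff hb₂ l).mpr hl) b₂ (fundWeight_mem_baseCorners b₂ l)]
          ring
        · rw [hG_l l hlj hl, hF_l l hl]; ring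
      · intro h'; exact absurd (Finset.mem_univ _) h'
    rw [hpy, sub_self, sub_zero] at hkey
    have : P.coroot' j (sigma G) * (P.toLinearMap (fundWeight b₂ j) (d b₂) -
        P.toLinearMap (fundWeight b₂ j) y) ≤ 0 := by rw [← hkey]; linarith
    by_contra hcon; push Not at hcon
    have := mul_pos hGj (sub_pos.mpr hcon)
    linarith

end Groth.Agent.Lib.Helper4.RootCh
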