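import Groth.Agent.Lib.Helper4.RootCh.MaxDeg
import Mathlib.Analysis.Convex.Combination

set_option autoImplicit false
set_option linter.unusedSectionVars false
set_option linter.unusedVariables false

open Module RootCh

namespace Groth.Agent.Lib.Helper4.RootCh

variable {ι R M N : Type*} [Field R] [LinearOrder R] [IsStrictOrderedRing R]
  [AddCommGroup M] [Module R M] [AddCommGroup N] [Module R N]
  {P : RootPairing ι R M N} [P.IsRootSystem] [Finite ι] [P.IsCrystallographic] [P.IsReduced]
  {d : P.Base → N}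

omit [AddCommGroup M] [Module R M] [Finite ι] in
/-- the points of a convex hull where a linear functional attains its minimum over the generators -/
lemma mem_convexHull_face {s : Set N} (f : N →ₗ[R] R) (v : R) (hs : ∀ x ∈ s, v ≤ f x) {y : N}
    (hy : y ∈ convexHull R s) (hfy : f y ≤ v) : y ∈ convexHull R {x | x ∈ s ∧ f x = v} := by
  classical
  rw [convexHull_eq] at hy
  obtain ⟨κ, t, w, z, hw0, hw1, hz, rfl⟩ := hy
  rw [Finset.centerMass_eq_of_sum_1 _ _ hw1, map_sum] at hfy
  have h1 : ∑ i ∈ t, w i * (f (z i) - v) ≤ 0 := by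
    have : ∑ i ∈ t, w i * (f (z i) - v) = ∑ i ∈ t, f (w i • z i) - v := by
      simp only [mul_sub, Finset.sum_sub_distrib, ← Finset.sum_mul, hw1, one_mul, map_smul,
        smul_eq_mul]
    rw [this]; linarith
  have h2 : ∀ i ∈ t, w i * (f (z i) - v) = 0 :=
    (Finset.sum_eq_zero_iff_of_nonneg (fun i hi =>
      mul_nonneg (hw0 i hi) (sub_nonneg.mpr (hs _ (hz i hi))))).mp
      (le_antisymm h1 (Finset.sum_nonneg fun i hi =>
        mul_nonneg (hw0 i hi) (sub_nonneg.mpr (hs _ (hz i hi)))))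
  rw [← Finset.centerMass_filter_ne_zero]
  apply Finset.centerMass_mem_convexHull
  · intro i hi; exact hw0 i (Finset.mem_filter.mp hi).1
  · rw [Finset.sum_filter_ne_zero, hw1]; exact one_pos
  · intro i hi
    obtain ⟨hit, hwi⟩ := Finset.mem_filter.mp hi
    refine ⟨hz i hit, ?_⟩
    rcases mul_eq_zero.mp (h2 i hit) with h | h
    · exact absurd h hwi
    · exact sub_eq_zero.mp h

section Form

variable (B : LinearMap.BilinForm R N) (hBs : ∀ y z : N, B y z = B z y)
  (hBp : ∀ y : N, y ≠ 0 → 0 < B y y)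
  (hBi : ∀ (i : ι) (y z : N), B (P.coreflection i y) (P.coreflection i z) = B y z)

include hBi in
omit [Finite ι] [P.IsCrystallographic] [P.IsReduced] [P.IsRootSystem] in
lemma two_mul_form_coroot (y : N) (k : ι) :
    2 * B y (P.coroot k) = P.root' k y * B (P.coroot k) (P.coroot k) := by
  have h := hBi k y (P.coroot k)
  rw [P.coreflection_apply_self, P.coreflection_apply, map_neg, map_sub, map_smul,
    LinearMap.sub_apply, LinearMap.smul_apply, smul_eq_mul] at h
  linarith

/-- the vector of `M` representing `B y₀` -/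
noncomputable def muVec (y₀ : N) : M := P.toPerfPair.symm (B y₀)

omit [Finite ι] [P.IsCrystallographic] [P.IsReduced] [P.IsRootSystem] in
lemma pair_muVec (y₀ x : N) : P.toLinearMap (muVec (P := P) B y₀) x = B y₀ x := by
  have : P.toLinearMap (P.toPerfPair.symm (B y₀)) = B y₀ :=
    P.toLinearMap.apply_symm_toPerfPair_self _
  rw [muVec, this]

include hBp hBi in
lemma sgnVec_muVec (y₀ : N) : sgnVec P (muVec (P := P) B y₀) = cosgnVec P y₀ := by
  funext k
  have h1 : P.coroot' k (muVec (P := P) B y₀) = B y₀ (P.coroot k) := pair_muVec B y₀ _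
  have h2 := two_mul_form_coroot B hBi y₀ k
  have h3 : 0 < B (P.coroot k) (P.coroot k) := hBp _ (coroot_ne_zero k)
  simp only [sgnVec, cosgnVec, h1]
  have h4 : B y₀ (P.coroot k) = P.root' k y₀ * (B (P.coroot k) (P.coroot k) / 2) := by
    field_simp; linarith
  rw [h4, sign_mul, sign_pos (half_pos h3), mul_one]

include hBp hBi in
lemma muVec_mem_carrier {F : Facet P} {y₀ : N} (h : y₀ ∈ F.dualCarrier) :
    muVec (P := P) B y₀ ∈ F.carrier :=
  (sgnVec_muVec B hBp hBi y₀).trans h

include hBs in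
omit [AddCommGroup M] [Module R M] [Finite ι] in
lemma form_expand (y y₀ : N) :
    B y y = B (y - y₀) (y - y₀) + 2 * B y₀ y - B y₀ y₀ := by
  simp only [map_sub, LinearMap.sub_apply]
  rw [hBs y y₀]; ring

include hBs hBp hBi in
theorem isMinOn_of_isSpecial (hd : IsCCS d) (F : Facet P) (hF : IsSpecial d F) :
    ∃ y₀ : N, yLocus d F = {y₀} ∧ y₀ ∈ solid d ∧
      ∀ y ∈ solid d, y ≠ y₀ → B y₀ y₀ < B y y := by
  obtain ⟨y₁, hy₁⟩ := hF
  obtain ⟨b, hb⟩ := Facet.cham_nonempty F
  refine ⟨y₁, yLocus_eq_singleton hd F (mem_yLocus_of_special hd F hy₁),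
    dualSolid_subset_solid d F hy₁.2, ?_⟩
  have hμ := muVec_mem_carrier B hBp hBi hy₁.1
  have h1 : ∀ b', B y₁ y₁ ≤ B y₁ (d b') := by
    intro b'
    rw [← pair_muVec (P := P) B y₁ y₁, ← pair_muVec (P := P) B y₁ (d b')]
    have h2 : P.toLinearMap (muVec (P := P) B y₁) y₁ = P.toLinearMap (muVec (P := P) B y₁) (d b) := by
      apply pair_eq_of_mem_span (S := F.corners) _ (mem_span_corners_of_mem_carrier hμ)
      intro m hm
      have := (dualSolid_subset hd F hy₁.2).1
      simp only [Set.mem_iInter, hyper, Set.mem_ofPred_eq] at this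
      exact this m hm b (corners_subset_baseCorners hb hm)
    rw [h2]
    exact pair_le_of_mem_closedChamber hd (hb hμ) b'
  have h2 : ∀ y ∈ solid d, B y₁ y₁ ≤ B y₁ y := by
    intro y hy
    have hconv : Convex R {w : N | B y₁ y₁ ≤ B y₁ w} := convex_halfSpace_ge (B y₁).isLinear _
    exact convexHull_min (by rintro _ ⟨b', rfl⟩; exact h1 b') hconv hy
  intro y hy hne
  have h3 : 0 < B (y - y₁) (y - y₁) := hBp _ (sub_ne_zero.mpr hne)
  rw [form_expand B hBs y y₁]
  have := h2 y hy
  linarith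

include hBs hBp hBi in
theorem isSpecial_of_isMinOn (hd : IsCCS d) (y₀ : N) (hy₀ : y₀ ∈ solid d)
    (hmin : ∀ y ∈ solid d, B y₀ y₀ ≤ B y y) (F : Facet P) (hF : y₀ ∈ F.dualCarrier) :
    IsSpecial d F ∧ yLocus d F = {y₀} := by
  obtain ⟨b, hb⟩ := Facet.cham_nonempty F
  -- variational inequality
  have hvar : ∀ y ∈ solid d, B y₀ y₀ ≤ B y₀ y := by
    intro y hy
    by_contra hcon; push Not at hcon
    set c := B y₀ y₀ - B y₀ y with hc
    have hcpos : 0 < c := by rw [hc]; linarith
    set z := y - y₀ with hz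
    set Q := B z z with hQ
    have hQ0 : 0 ≤ Q := by
      by_cases hz0 : z = 0
      · rw [hQ, hz0]; simp
      · exact (hBp z hz0).le
    set t := min 1 (c / (Q + 1)) with ht
    have htpos : 0 < t := lt_min one_pos (div_pos hcpos (by linarith))
    have ht1 : t ≤ 1 := min_le_left _ _
    have ht2 : t * (Q + 1) ≤ c := by
      have : t ≤ c / (Q + 1) := min_le_right _ _
      calc t * (Q + 1) ≤ c / (Q + 1) * (Q + 1) :=
            mul_le_mul_of_nonneg_right this (by linarith)
        _ = c := by field_simp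
    have hyt : y₀ + t • z ∈ solid d := by
      have hconv : Convex R (solid d) := convex_convexHull R _
      have := hconv hy₀ hy (sub_nonneg.mpr ht1) htpos.le (by ring)
      convert this using 1
      rw [hz]; module
    have h1 := hmin _ hyt
    have h2 : B (y₀ + t • z) (y₀ + t • z) = B y₀ y₀ + 2 * t * B y₀ z + t * t * Q := by
      simp only [map_add, map_smul, LinearMap.add_apply, LinearMap.smul_apply, smul_eq_mul]
      rw [hBs z y₀, hQ]; ring
    have h3 : B y₀ z = -c := by rw [hz, map_sub, hc]; ring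
    rw [h2, h3] at h1
    nlinarith
  have hμ := muVec_mem_carrier B hBp hBi hF
  set f : N →ₗ[R] R := P.toLinearMap (muVec (P := P) B y₀) with hf
  have hmem : y₀ ∈ dualSolid d F := by
    have h1 : ∀ x ∈ Set.range d, f (d b) ≤ f x := by
      rintro _ ⟨b', rfl⟩
      exact pair_le_of_mem_closedChamber hd (hb hμ) b'
    have h2 : f y₀ ≤ f (d b) := by
      rw [hf, pair_muVec, pair_muVec]
      exact hvar _ (subset_convexHull R _ ⟨b, rfl⟩)
    have h3 := mem_convexHull_face f (f (d b)) h1 hy₀ h2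
    refine convexHull_mono ?_ h3
    rintro _ ⟨⟨b', rfl⟩, hb'⟩
    obtain ⟨b₁, hb₁, he⟩ := exists_of_pair_eq hd (hb hμ) b' hb'
    exact ⟨b₁, mem_cham_of_mem hμ hb₁, he⟩
  exact ⟨⟨y₀, hF, hmem⟩, yLocus_eq_singleton hd F (mem_yLocus_of_special hd F ⟨hF, hmem⟩)⟩

end Form

end Groth.Agent.Lib.Helper4.RootCh
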