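import Groth.Agent.Lib.Helper4.RootCh.MaxDeg

set_option autoImplicit false
set_option linter.unusedSectionVars false
set_option linter.unusedVariables false

open Module RootCh

namespace Groth.Agent.Lib.Helper4.RootCh

variable {ι R M N : Type*} [Field R] [LinearOrder R] [IsStrictOrderedRing R]
  [AddCommGroup M] [Module R M] [AddCommGroup N] [Module R N]
  {P : RootPairing ι R M N} [P.IsRootSystem] [Finite ι] [P.IsCrystallographic] [P.IsReduced]

omit [Finite ι] [P.IsCrystallographic] [P.IsReduced] [P.IsRootSystem] in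
lemma root_neg (k : ι) : P.root (P.reflectionPerm k k) = -P.root k := by
  rw [P.root_reflectionPerm, P.reflection_apply_self]

omit [Finite ι] [P.IsCrystallographic] [P.IsReduced] [P.IsRootSystem] in
lemma neg_neg_idx (k : ι) :
    P.reflectionPerm (P.reflectionPerm k k) (P.reflectionPerm k k) = k := by
  apply P.root.injective
  rw [root_neg, root_neg, neg_neg]

omit [Finite ι] [P.IsCrystallographic] [P.IsReduced] [P.IsRootSystem] in
lemma root'_neg (k : ι) (x : N) : P.root' (P.reflectionPerm k k) x = - P.root' k x := by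
  change P.toLinearMap (P.root (P.reflectionPerm k k)) x = _
  rw [root_neg, map_neg, LinearMap.neg_apply]

/-- the parabolic set of a facet is a parabolic subset -/
theorem isParabolicSubset_parab (F : Facet P) : IsParabolicSubset P F.parab := by
  constructor
  · intro i j k hi hj hk
    obtain ⟨ξ, hξ⟩ := F.exists_sgnVec_eq
    have hi' : 0 ≤ P.coroot' i ξ := by
      rw [← sgnVec_ne_neg_one_iff, hξ]; exact hi
    have hj' : 0 ≤ P.coroot' j ξ := by
      rw [← sgnVec_ne_neg_one_iff, hξ]; exact hj
    change F.sgn k ≠ -1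
    rw [← hξ, sgnVec_ne_neg_one_iff]
    have h1 : P.root' k (pol P ξ) = P.root' i (pol P ξ) + P.root' j (pol P ξ) := by
      change P.toLinearMap (P.root k) _ = P.toLinearMap (P.root i) _ + P.toLinearMap (P.root j) _
      rw [hk, map_add, LinearMap.add_apply]
    rw [root'_pol, root'_pol, root'_pol] at h1
    have hk0 := polq_pos (P := P) k
    have : 0 ≤ polq P k * P.coroot' k ξ := by
      rw [h1]
      exact add_nonneg (mul_nonneg (polq_pos i).le hi') (mul_nonneg (polq_pos j).le hj')
    exact (mul_nonneg_iff_of_pos_left hk0).mp this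
  · intro i
    change F.sgn i ≠ -1 ∨ F.sgn (P.reflectionPerm i i) ≠ -1
    rw [Facet.sgn_reflectionPerm_self]
    generalize F.sgn i = s
    cases s <;> decide

lemma parab_injective {F G : Facet P} (h : F.parab = G.parab) : F = G :=
  le_antisymm (le_of_parab_subset h.le) (le_of_parab_subset h.ge)

section Bourbaki

variable {S : Set ι} (hS : IsParabolicSubset P S)

include hS in
/-- a parabolic subset contains the positive roots of some base -/
lemma exists_base_isPos_subset : ∃ b : P.Base, ∀ k, b.IsPos k → k ∈ S := by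
  classical
  have : Nonempty P.Base := P.nonempty_base
  obtain ⟨b, hb⟩ := Finite.exists_max (fun b : P.Base => Set.ncard {k | b.IsPos k ∧ k ∈ S})
  have hsimple : ∀ i ∈ b.support, i ∈ S := by
    intro i hi
    by_contra hiS
    have hni : P.reflectionPerm i i ∈ S := (hS.2 i).resolve_left hiS
    have hsub : {k | b.IsPos k ∧ k ∈ S} ⊂ {k | (reflBase b i).IsPos k ∧ k ∈ S} := by
      constructor
      · rintro k ⟨hk1, hk2⟩
        have hki : k ≠ i := fun e => hiS (e ▸ hk2)
        have hki' : k ≠ P.reflectionPerm i i := by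
          rintro rfl
          exact not_isPos_reflectionPerm_self b (RootPairing.Base.isPos_of_mem_support hi) hk1
        exact ⟨(isPos_reflBase_of_ne b hi hki hki').mpr hk1, hk2⟩
      · intro hcon
        have := hcon ⟨isPos_reflBase_neg b hi, hni⟩
        exact not_isPos_reflectionPerm_self b (RootPairing.Base.isPos_of_mem_support hi) this.1
    have := Set.ncard_lt_ncard hsub (Set.toFinite _)
    exact absurd (hb (reflBase b i)) (not_le.mpr this)
  refine ⟨b, fun k hk => ?_⟩
  exact hk.induction_on_add hsimple (fun i j k hk hi hj => hS.1 i j k hi (hsimple j hj) hk)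

include hS in
/-- negatives of positive roots in a parabolic subset containing the positive roots -/
lemma neg_mem_iff (b : P.Base) (hpos : ∀ k, b.IsPos k → k ∈ S) {k : ι} (hk : b.IsPos k) :
    P.reflectionPerm k k ∈ S ↔
      ∀ l : b.support, P.root' k (fundCoweight b l) ≠ 0 → P.reflectionPerm l l ∈ S := by
  classical
  suffices h : b.IsPos k ∧ (P.reflectionPerm k k ∈ S ↔
      ∀ l : b.support, P.root' k (fundCoweight b l) ≠ 0 → P.reflectionPerm l l ∈ S) from h.2
  refine hk.induction_on_add (p := fun k => b.IsPos k ∧ (P.reflectionPerm k k ∈ S ↔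
      ∀ l : b.support, P.root' k (fundCoweight b l) ≠ 0 → P.reflectionPerm l l ∈ S)) ?_ ?_
  · intro j hj
    refine ⟨RootPairing.Base.isPos_of_mem_support hj, ?_, ?_⟩
    · intro h l hl
      by_cases hlj : l = ⟨j, hj⟩
      · rw [hlj]; exact h
      · exact absurd (root'_fundCoweight_of_ne b l ⟨j, hj⟩ (Ne.symm hlj)) hl
    · intro h
      exact h ⟨j, hj⟩ (by rw [root'_fundCoweight_self b ⟨j, hj⟩]; exact one_ne_zero)
  · intro k' j k'' hroot ⟨hk'pos, hk'⟩ hj
    have hjpos := RootPairing.Base.isPos_of_mem_support hj
    have hk''pos : b.IsPos k'' := hk'pos.add hjpos hroot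
    refine ⟨hk''pos, ?_⟩
    have hcoef : ∀ l : b.support, P.root' k'' (fundCoweight b l) =
        P.root' k' (fundCoweight b l) + P.root' j (fundCoweight b l) := by
      intro l
      change P.toLinearMap (P.root k'') _ = P.toLinearMap (P.root k') _ + P.toLinearMap (P.root j) _
      rw [hroot, map_add, LinearMap.add_apply]
    have hnz : ∀ l : b.support, P.root' k'' (fundCoweight b l) ≠ 0 ↔
        (P.root' k' (fundCoweight b l) ≠ 0 ∨ l = ⟨j, hj⟩) := by
      intro l
      rw [hcoef l]
      have h1 := root'_fundCoweight_nonneg hk'pos l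
      by_cases hlj : l = ⟨j, hj⟩
      · subst hlj
        have : P.root' j (fundCoweight b ⟨j, hj⟩) = 1 := root'_fundCoweight_self b ⟨j, hj⟩
        rw [this]
        constructor
        · intro _; exact Or.inr rfl
        · intro _; linarith
      · have : P.root' j (fundCoweight b l) = 0 :=
          root'_fundCoweight_of_ne b l ⟨j, hj⟩ (Ne.symm hlj)
        rw [this, add_zero]
        simp [hlj]
    constructor
    · intro hn l hl
      have hnk' : P.reflectionPerm k' k' ∈ S := by
        apply hS.1 (P.reflectionPerm k'' k'') j _ hn (hpos j hjpos)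
        rw [root_neg, root_neg, hroot]; abel
      have hnj : P.reflectionPerm j j ∈ S := by
        apply hS.1 (P.reflectionPerm k'' k'') k' _ hn (hpos k' hk'pos)
        rw [root_neg, root_neg, hroot]; abel
      rcases (hnz l).mp hl with h | h
      · exact hk'.mp hnk' l h
      · rw [h]; exact hnj
    · intro h
      have hnk' : P.reflectionPerm k' k' ∈ S :=
        hk'.mpr (fun l hl => h l ((hnz l).mpr (Or.inl hl)))
      have hnj : P.reflectionPerm j j ∈ S := h ⟨j, hj⟩ ((hnz _).mpr (Or.inr rfl))
      apply hS.1 (P.reflectionPerm k' k') (P.reflectionPerm j j) _ hnk' hnj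
      rw [root_neg, root_neg, root_neg, hroot]; abel

include hS in
theorem exists_facet_parab_eq : ∃ F : Facet P, F.parab = S := by
  classical
  obtain ⟨b, hpos⟩ := exists_base_isPos_subset hS
  set c : b.support → R := fun l => if P.reflectionPerm l l ∈ S then 0 else 1 with hc
  set ξ : M := ∑ l : b.support, c l • fundWeight b l with hξ
  have hcoef : ∀ l : b.support, P.coroot' l ξ = c l := by
    intro l
    rw [hξ, map_sum, Finset.sum_eq_single l]
    · rw [map_smul, coroot'_fundWeight_self, smul_eq_mul, mul_one]
    · intro j _ hj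
      rw [map_smul, coroot'_fundWeight_of_ne b j l (Ne.symm hj), smul_zero]
    · intro h; exact absurd (Finset.mem_univ _) h
  have hcl : ξ ∈ closedChamber b := by
    intro l hl
    have := hcoef ⟨l, hl⟩
    simp only at this
    rw [this, hc]
    simp only
    split_ifs <;> norm_num
  refine ⟨Facet.ofVec P ξ, ?_⟩
  have hb : b ∈ (Facet.ofVec P ξ).cham := mem_ofVec_cham hcl
  ext k
  by_cases hk : b.IsPos k
  · exact ⟨fun _ => hpos k hk, fun _ => isPos_mem_parab hb hk⟩
  · have hnk : b.IsPos (P.reflectionPerm k k) := by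
      let _ := P.indexNeg
      exact (RootPairing.Base.IsPos.or_neg b k).resolve_left hk
    rw [mem_parab_iff_of_not_isPos hb hk, ofVec_sgn, sign_eq_zero_iff, coroot'_eq_zero_iff hcl]
    have h1 := neg_mem_iff hS b hpos hnk
    rw [neg_neg_idx] at h1
    rw [h1]
    refine forall_congr' fun l => ?_
    rw [root'_neg, neg_ne_zero, Ne, root'_fundCoweight_eq_zero_iff b k l, hcoef l, hc]
    simp only
    constructor
    · rintro (h | h)
      · intro h'; exact absurd h h'
      · intro _
        by_contra hn
        rw [if_neg hn] at h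
        exact one_ne_zero h
    · intro h
      by_cases h0 : P.coroot' k (fundWeight b l) = 0
      · exact Or.inl h0
      · right; rw [if_pos (h h0)]

end Bourbaki

theorem isParabolicSubset_iff :
    (∀ S : Set ι, IsParabolicSubset P S ↔ ∃! F : Facet P, F.parab = S) ∧
      ∀ F G : Facet P, F ≤ G ↔ F.parab ⊆ G.parab := by
  constructor
  · intro S
    constructor
    · intro hS
      obtain ⟨F, hF⟩ := exists_facet_parab_eq hS
      exact ⟨F, hF, fun G hG => parab_injective (hG.trans hF.symm)⟩
    · rintro ⟨F, rfl, -⟩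
      exact isParabolicSubset_parab F
  · intro F G
    exact ⟨fun h => parab_subset_of_le h, fun h => le_of_parab_subset h⟩

theorem existsUnique_facet_corners_eq (S : Set ι) (hS : IsParabolicSubset P S) :
    ∃ F : Facet P,
      (F.corners = {m : M | m ∈ fundWeights P ∧ ∀ y : N, Corr P m y → ∀ i ∈ S, 0 ≤ P.root' i y} ∧
        F.parab = S) ∧
      ∀ G : Facet P,
        G.corners = {m : M | m ∈ fundWeights P ∧ ∀ y : N, Corr P m y → ∀ i ∈ S, 0 ≤ P.root' i y} →
        G = F := by
  obtain ⟨F, hF⟩ := exists_facet_parab_eq hS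
  have hFc : F.corners =
      {m : M | m ∈ fundWeights P ∧ ∀ y : N, Corr P m y → ∀ i ∈ S, 0 ≤ P.root' i y} := by
    rw [corners_eq_setOf_nonneg_on_parab F, hF]
  refine ⟨F, ⟨hFc, hF⟩, fun G hG => ?_⟩
  have hc : G.corners = F.corners := hG.trans hFc.symm
  have hcar : G.carrier = F.carrier := by
    rw [carrier_eq_setOf_pos_comb_corners G, carrier_eq_setOf_pos_comb_corners F, hc]
  obtain ⟨ξ, hξ⟩ := G.exists_sgnVec_eq
  have hξG : ξ ∈ G.carrier := hξ
  have hξF : ξ ∈ F.carrier := hcar ▸ hξG
  exact Facet.ext (hξ.symm.trans hξF)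

end Groth.Agent.Lib.Helper4.RootCh
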