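import Groth.Agent.Lib.Helper4.RootCh.MaxDeg

set_option autoImplicit false
set_option linter.unusedSectionVars false
set_option linter.unusedVariables false

open Module RootCh

namespace Groth.Agent.Lib.Helper4.RootCh

variable {ι R M N : Type*} [Field R] [LinearOrder R] [IsStrictOrderedRing R]
  [AddCommGroup M] [Module R M] [AddCommGroup N] [Module R N]
  {P : RootPairing ι R M N} [P.IsRootSystem] [Finite ι] [P.IsCrystallographic] [P.IsReduced]
  {d : P.Base → N}

lemma mem_Psi_iff {F : Facet P} {b : P.Base} (hb : b ∈ F.cham) (j₀ : b.support) (k : ι) :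
    k ∈ F.Psi (fundWeight b j₀) ↔ P.root' k (fundCoweight b j₀) = 1 ∧
      ∀ j : b.support, F.sgn j = 1 → j ≠ j₀ → P.root' k (fundCoweight b j) = 0 := by
  constructor
  · rintro ⟨h1, h2⟩
    refine ⟨h1 _ ((corr_iff _).mpr rfl), fun j hj hne => ?_⟩
    exact h2 _ ((fundWeight_mem_corners_iff hb j).mpr hj)
      (fun e => hne (fundWeight_injective b e)) _ ((corr_iff _).mpr rfl)
  · rintro ⟨h1, h2⟩
    refine ⟨fun x hx => by rw [(corr_iff x).mp hx]; exact h1, fun w' hw' hne x hx => ?_⟩
    rw [corners_eq hb] at hw'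
    obtain ⟨j, hj, rfl⟩ := hw'
    rw [(corr_iff x).mp hx]
    exact h2 j hj (fun e => hne (by rw [e]))

omit [Finite ι] [P.IsCrystallographic] [P.IsReduced] [P.IsRootSystem] in
lemma root'_reflectionPerm (j k : ι) (x : N) :
    P.root' (P.reflectionPerm j k) x = P.root' k x - P.coroot' j (P.root k) * P.root' j x := by
  change P.toLinearMap (P.root (P.reflectionPerm j k)) x = _
  rw [P.root_reflectionPerm, P.reflection_apply, map_sub, map_smul, LinearMap.sub_apply,
    LinearMap.smul_apply, smul_eq_mul]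

lemma Psi_stable {F : Facet P} {b : P.Base} (hb : b ∈ F.cham) (j₀ : b.support)
    (hj₀ : F.sgn j₀ = 1) (j : b.support) (hj : F.sgn j ≠ 1) (k : ι) :
    k ∈ F.Psi (fundWeight b j₀) ↔ P.reflectionPerm j k ∈ F.Psi (fundWeight b j₀) := by
  have hjj₀ : j₀ ≠ j := fun e => hj (e ▸ hj₀)
  rw [mem_Psi_iff hb, mem_Psi_iff hb, root'_reflectionPerm,
    root'_fundCoweight_of_ne b j₀ j (Ne.symm hjj₀), mul_zero, sub_zero]
  refine and_congr Iff.rfl (forall_congr' fun l => ?_)
  by_cases hl : F.sgn l = 1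
  · have hlj : l ≠ j := fun e => hj (e ▸ hl)
    rw [root'_reflectionPerm, root'_fundCoweight_of_ne b l j (Ne.symm hlj), mul_zero, sub_zero]
  · simp [hl]

lemma mem_span_corners_of_coroot'_eq_zero {F : Facet P} {b : P.Base} (hb : b ∈ F.cham) {ξ : M}
    (h : ∀ j : b.support, F.sgn j ≠ 1 → P.coroot' j ξ = 0) : ξ ∈ Submodule.span R F.corners := by
  rw [eq_sum_fundWeight b ξ]
  refine Submodule.sum_mem _ fun j _ => ?_
  by_cases hj : F.sgn j = 1
  · exact Submodule.smul_mem _ _ (Submodule.subset_span ((fundWeight_mem_corners_iff hb j).mpr hj))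
  · rw [h j hj, zero_smul]; exact Submodule.zero_mem _

/-- the sum of the roots of the elementary set -/
noncomputable def sigmaPsi (F : Facet P) (m : M) : M :=
  ∑ i ∈ (Set.toFinite (F.Psi m)).toFinset, P.root i

theorem sum_root_psi_mem_span_corners (F : Facet P) (m : M) (hm : m ∈ F.corners) :
    sigmaPsi F m ∈ Submodule.span R F.corners := by
  obtain ⟨b, hb⟩ := Facet.cham_nonempty F
  have hm' := hm
  rw [corners_eq hb] at hm'
  obtain ⟨j₀, hj₀, rfl⟩ := hm'
  apply mem_span_corners_of_coroot'_eq_zero hb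
  intro j hj
  apply coroot'_sum_eq_zero_of_stable (P := P) (j : ι)
  intro k
  rw [Set.Finite.mem_toFinset, Set.Finite.mem_toFinset]
  exact Psi_stable hb j₀ hj₀ j hj k

omit [P.IsCrystallographic] [P.IsReduced] in
lemma numInv_eq_pair (d : P.Base → N) (F : Facet P) (m : M) (b : P.Base) :
    F.numInv d m b = P.toLinearMap (sigmaPsi F m) (d b) := by
  rw [Facet.numInv, sigmaPsi, map_sum, LinearMap.sum_apply]

theorem numInv_eq_of_mem_cham (hd : IsCCS d) (F : Facet P) (m : M) (hm : m ∈ F.corners)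
    {b b' : P.Base} (hb : b ∈ F.cham) (hb' : b' ∈ F.cham) :
    F.numInv d m b = F.numInv d m b' := by
  rw [numInv_eq_pair, numInv_eq_pair]
  apply pair_eq_of_mem_span (S := F.corners) _ (sum_root_psi_mem_span_corners F m hm)
  intro w hw
  exact hd.corner_eq b b' w (corners_subset_baseCorners hb hw) (corners_subset_baseCorners hb' hw)

end Groth.Agent.Lib.Helper4.RootCh
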