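import Groth.Agent.Lib.Helper4.RootCh.Solid

set_option autoImplicit false
set_option linter.unusedSectionVars false
set_option linter.unusedVariables false

open Module RootCh

namespace Groth.Agent.Lib.Helper4.RootCh

variable {ι R M N : Type*} [Field R] [LinearOrder R] [IsStrictOrderedRing R]
  [AddCommGroup M] [Module R M] [AddCommGroup N] [Module R N]
  {P : RootPairing ι R M N} [P.IsRootSystem] [Finite ι] [P.IsCrystallographic] [P.IsReduced]
  {d : P.Base → N}

omit [Finite ι] [P.IsCrystallographic] [P.IsReduced] [P.IsRootSystem] in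
lemma origin_sgn (k : ι) : (Facet.origin P).sgn k = 0 := by
  change SignType.sign (P.coroot' k 0) = 0
  rw [map_zero, sign_zero]

omit [Finite ι] [P.IsCrystallographic] [P.IsReduced] [P.IsRootSystem] in
lemma mem_origin_cham (b : P.Base) : b ∈ (Facet.origin P).cham := by
  rw [mem_cham_iff]
  intro i _
  rw [origin_sgn]; decide

omit [Finite ι] [P.IsCrystallographic] [P.IsReduced] in
lemma origin_corners : (Facet.origin P).corners = ∅ := by
  rw [Set.eq_empty_iff_forall_notMem]
  rintro m ⟨⟨b, j, rfl⟩, h2⟩
  have := h2 j
  rw [origin_sgn, or_self, sgnVec_eq_zero_iff, coroot'_fundWeight_self] at this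
  exact one_ne_zero this

omit [Finite ι] [P.IsCrystallographic] [P.IsReduced] in
lemma solid_eq_dualSolid_origin (d : P.Base → N) : solid d = dualSolid d (Facet.origin P) := by
  have : (Facet.origin P).cham = Set.univ := Set.eq_univ_of_forall mem_origin_cham
  rw [solid, dualSolid, this, Set.image_univ]

omit [Finite ι] [P.IsCrystallographic] [P.IsReduced] in
lemma mem_origin_corners' {b : P.Base} {m : M} (hm : m ∈ baseCorners b) :
    m ∈ (Facet.origin P).corners' := by
  simp only [Facet.corners', Set.mem_iUnion]
  exact ⟨b, mem_origin_cham b, hm⟩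

theorem forall_corner_pairing_nonpos_iff (hd : IsCCS d) :
    (∀ (b : P.Base), ∀ m ∈ baseCorners b, P.toLinearMap m (d b) ≤ 0) ↔ IsSemistable d := by
  rw [IsSemistable, solid_eq_dualSolid_origin, dualSolid_eq hd, origin_corners]
  simp only [Set.mem_inter_iff, Set.mem_iInter, halfClosed, Set.mem_ofPred_eq, map_zero,
    Set.mem_empty_iff_false, IsEmpty.forall_iff, implies_true, true_and]
  constructor
  · intro h m _ b hb
    exact h b m hb
  · intro h b m hb
    exact h m (mem_origin_corners' hb) b hb

end Groth.Agent.Lib.Helper4.RootCh
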