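import Groth.Agent.Lib.Helper4.RootCh.Gallery
import Groth.Agent.Lib.Helper4.RootCh.Farkas
import Mathlib.Data.Set.Finite.Lemmas

set_option autoImplicit false
set_option linter.unusedSectionVars false
set_option linter.unusedVariables false

open Module RootCh

namespace Groth.Agent.Lib.Helper4.RootCh

variable {ι R M N : Type*} [Field R] [LinearOrder R] [IsStrictOrderedRing R]
  [AddCommGroup M] [Module R M] [AddCommGroup N] [Module R N]
  {P : RootPairing ι R M N} [P.IsRootSystem] [Finite ι] [P.IsCrystallographic] [P.IsReduced]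
  {d : P.Base → N}

/-- separation from the convex hull of a finite set -/
lemma exists_linear_lt_of_notMem_convexHull_finite {s : Set N} (hs : s.Finite) (y : N)
    (hy : y ∉ convexHull R s) : ∃ f : N →ₗ[R] R, ∀ x ∈ s, f y < f x := by
  obtain ⟨k, p, -, hp⟩ := hs.fin_param
  rw [← hp] at hy
  obtain ⟨f, hf⟩ := exists_linear_lt_of_notMem_convexHull k p y hy
  refine ⟨f, fun x hx => ?_⟩
  rw [← hp] at hx
  obtain ⟨j, rfl⟩ := hx
  exact hf j

omit [Finite ι] [P.IsCrystallographic] [P.IsReduced] in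
lemma pair_eq_of_mem_span {S : Set M} {y y' : N}
    (h : ∀ m ∈ S, P.toLinearMap m y = P.toLinearMap m y') {ξ : M}
    (hξ : ξ ∈ Submodule.span R S) : P.toLinearMap ξ y = P.toLinearMap ξ y' := by
  have : Set.EqOn (P.toLinearMap.flip y) (P.toLinearMap.flip y') (Submodule.span R S) :=
    LinearMap.eqOn_span (fun m hm => h m hm)
  exact this hξ

omit [Finite ι] [P.IsCrystallographic] [P.IsReduced] in
lemma corners_subset_baseCorners {F : Facet P} {b : P.Base} (hb : b ∈ F.cham) :
    F.corners ⊆ baseCorners b :=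
  fun m hm => ⟨hm.1, closure_subset_closedChamber hb hm.2⟩

omit [Finite ι] [P.IsCrystallographic] [P.IsReduced] in
lemma convex_rhs (d : P.Base → N) (F : Facet P) :
    Convex R ((⋂ m ∈ F.corners, hyper d m) ∩ ⋂ m ∈ F.corners', halfClosed d m) := by
  intro x hx y hy a c ha hc hac
  simp only [Set.mem_inter_iff, Set.mem_iInter, hyper, halfClosed, Set.mem_ofPred_eq] at hx hy ⊢
  constructor
  · intro m hm b hb
    rw [map_add, map_smul, map_smul, hx.1 m hm b hb, hy.1 m hm b hb, smul_eq_mul, smul_eq_mul,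
      ← add_mul, hac, one_mul]
  · intro m hm b hb
    rw [map_add, map_smul, map_smul, smul_eq_mul, smul_eq_mul]
    have h1 := mul_le_mul_of_nonneg_left (hx.2 m hm b hb) ha
    have h2 := mul_le_mul_of_nonneg_left (hy.2 m hm b hb) hc
    calc P.toLinearMap m (d b) = (a + c) * P.toLinearMap m (d b) := by rw [hac, one_mul]
      _ = a * P.toLinearMap m (d b) + c * P.toLinearMap m (d b) := by ring
      _ ≤ _ := add_le_add h1 h2

theorem dualSolid_subset (hd : IsCCS d) (F : Facet P) :
    dualSolid d F ⊆ (⋂ m ∈ F.corners, hyper d m) ∩ ⋂ m ∈ F.corners', halfClosed d m := by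
  apply convexHull_min _ (convex_rhs d F)
  rintro _ ⟨b₁, hb₁, rfl⟩
  simp only [Set.mem_inter_iff, Set.mem_iInter, hyper, halfClosed, Set.mem_ofPred_eq]
  constructor
  · intro m hm b hb
    exact hd.corner_eq b₁ b m (corners_subset_baseCorners hb₁ hm) hb
  · intro m hm b hb
    exact pair_le_of_mem_closedChamber hd hb.2 b₁

theorem dualSolid_eq (hd : IsCCS d) (F : Facet P) :
    dualSolid d F = (⋂ m ∈ F.corners, hyper d m) ∩ ⋂ m ∈ F.corners', halfClosed d m := by
  apply Set.Subset.antisymm (dualSolid_subset hd F)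
  intro y hy
  by_contra hcon
  have hfin : (d '' F.cham).Finite := (Set.toFinite F.cham).image d
  obtain ⟨f, hf⟩ := exists_linear_lt_of_notMem_convexHull_finite hfin y hcon
  set ξ₀ : M := P.toPerfPair.symm f with hξ₀
  have hf' : ∀ x, f x = P.toLinearMap ξ₀ x := by
    intro x
    have : P.toLinearMap (P.toPerfPair.symm f) = f := P.toLinearMap.apply_symm_toPerfPair_self f
    rw [hξ₀, this]
  obtain ⟨ξ, hξ⟩ := F.exists_sgnVec_eq
  obtain ⟨t, ht, b₁, hb1, hb2⟩ := exists_base_perturb (P := P) ξ ξ₀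
  have hb₁ : b₁ ∈ F.cham := mem_cham_of_mem (F := F) hξ hb1
  simp only [Set.mem_inter_iff, Set.mem_iInter, hyper, halfClosed, Set.mem_ofPred_eq] at hy
  -- pairing with ξ + t ξ₀
  have h1 : P.toLinearMap (ξ + t • ξ₀) (d b₁) ≤ P.toLinearMap (ξ + t • ξ₀) y := by
    rw [pair_eq_sum_fundWeight b₁ _ (d b₁), pair_eq_sum_fundWeight b₁ _ y]
    refine Finset.sum_le_sum fun j _ => mul_le_mul_of_nonneg_left ?_ (hb2 j j.2)
    have hc' : fundWeight b₁ j ∈ F.corners' := by
      simp only [Facet.corners', Set.mem_iUnion]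
      exact ⟨b₁, hb₁, fundWeight_mem_baseCorners b₁ j⟩
    exact hy.2 _ hc' b₁ (fundWeight_mem_baseCorners b₁ j)
  have h2 : P.toLinearMap ξ y = P.toLinearMap ξ (d b₁) := by
    apply pair_eq_of_mem_span (S := F.corners) _ (mem_span_corners_of_mem_carrier hξ)
    intro m hm
    exact hy.1 m hm b₁ (corners_subset_baseCorners hb₁ hm)
  simp only [map_add, map_smul, LinearMap.add_apply, LinearMap.smul_apply, smul_eq_mul] at h1
  rw [h2] at h1
  have h3 : P.toLinearMap ξ₀ (d b₁) ≤ P.toLinearMap ξ₀ y := by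
    have := (mul_le_mul_iff_of_pos_left ht).mp (by linarith : t * P.toLinearMap ξ₀ (d b₁) ≤ t * P.toLinearMap ξ₀ y)
    exact this
  have h4 := hf (d b₁) ⟨b₁, hb₁, rfl⟩
  rw [hf', hf'] at h4
  exact not_lt.mpr h3 h4

end Groth.Agent.Lib.Helper4.RootCh
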