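import Groth.Agent.Lib.Helper4.RootCh.Degree

set_option autoImplicit false
set_option linter.unusedSectionVars false
set_option linter.unusedVariables false

open Module RootCh

namespace Groth.Agent.Lib.Helper4.RootCh

variable {ι R M N : Type*} [Field R] [LinearOrder R] [IsStrictOrderedRing R]
  [AddCommGroup M] [Module R M] [AddCommGroup N] [Module R N]
  {P : RootPairing ι R M N} [P.IsRootSystem] [Finite ι] [P.IsCrystallographic] [P.IsReduced]
  {d : P.Base → N}

/-- the facet of the dual root system with the same sign vector -/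
noncomputable def dualFacet (F : Facet P) : Facet P.flip :=
  ⟨F.sgn, by
    obtain ⟨ξ, hξ⟩ := F.exists_sgnVec_eq
    exact ⟨pol P ξ, (cosgnVec_pol ξ).trans hξ⟩⟩

lemma dualFacet_carrier (F : Facet P) : (dualFacet F).carrier = F.dualCarrier := rfl

lemma flip_mem_dualFacet_cham {F : Facet P} {b : P.Base} (hb : b ∈ F.cham) :
    b.flip ∈ (dualFacet F).cham := by
  rw [mem_cham_iff] at hb ⊢
  exact hb

lemma mem_dualCarrier_iff {F : Facet P} {b : P.Base} (hb : b ∈ F.cham) (x : N) :
    x ∈ F.dualCarrier ↔ ∀ j : b.support, SignType.sign (P.root' j x) = F.sgn j :=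
  mem_carrier_iff (P := P.flip) (F := dualFacet F) (flip_mem_dualFacet_cham hb) x

lemma dualFacet_corners {F : Facet P} {b : P.Base} (hb : b ∈ F.cham) :
    (dualFacet F).corners = {y | ∃ j : b.support, F.sgn j = 1 ∧ fundCoweight b j = y} :=
  corners_eq (P := P.flip) (F := dualFacet F) (flip_mem_dualFacet_cham hb)

lemma span_dualCarrier {F : Facet P} {b : P.Base} (hb : b ∈ F.cham) :
    Submodule.span R F.dualCarrier =
      Submodule.span R {y | ∃ j : b.support, F.sgn j = 1 ∧ fundCoweight b j = y} := by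
  rw [← dualFacet_carrier, span_carrier_eq_span_corners (P := P.flip), dualFacet_corners hb]

/-- every vector of the span of the dual facet is the polarization of a vector of the span of
the corners -/
lemma exists_pol_eq_of_mem_span_dualCarrier (F : Facet P) {z : N}
    (hz : z ∈ Submodule.span R F.dualCarrier) :
    ∃ ζ ∈ Submodule.span R F.corners, pol P ζ = z := by
  obtain ⟨b, hb⟩ := Facet.cham_nonempty F
  rw [span_dualCarrier hb] at hz
  induction hz using Submodule.span_induction with
  | mem y hy =>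
    obtain ⟨j, hj, rfl⟩ := hy
    refine ⟨(polq P j)⁻¹ • fundWeight b j, Submodule.smul_mem _ _
      (Submodule.subset_span ((fundWeight_mem_corners_iff hb j).mpr hj)), ?_⟩
    rw [map_smul, pol_fundWeight, smul_smul, inv_mul_cancel₀ (polq_pos (P := P) j).ne', one_smul]
  | zero => exact ⟨0, Submodule.zero_mem _, map_zero _⟩
  | add x y _ _ hx hy =>
    obtain ⟨ζ₁, h1, rfl⟩ := hx
    obtain ⟨ζ₂, h2, rfl⟩ := hy
    exact ⟨ζ₁ + ζ₂, Submodule.add_mem _ h1 h2, map_add _ _ _⟩
  | smul a x _ hx =>
    obtain ⟨ζ, h1, rfl⟩ := hx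
    exact ⟨a • ζ, Submodule.smul_mem _ _ h1, map_smul _ _ _⟩

/-- a vector of the span of the dual facet orthogonal to all corners vanishes -/
lemma eq_zero_of_mem_span_dualCarrier (F : Facet P) {z : N}
    (hz : z ∈ Submodule.span R F.dualCarrier)
    (h : ∀ m ∈ F.corners, P.toLinearMap m z = 0) : z = 0 := by
  obtain ⟨ζ, hζ, rfl⟩ := exists_pol_eq_of_mem_span_dualCarrier F hz
  have h1 : P.toLinearMap ζ (pol P ζ) = P.toLinearMap ζ (0 : N) :=
    pair_eq_of_mem_span (S := F.corners) (fun m hm => by rw [h m hm, map_zero]) hζ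
  rw [map_zero] at h1
  by_contra hne
  have hζ0 : ζ ≠ 0 := fun e => hne (by rw [e, map_zero])
  exact (pair_pol_pos (P := P) hζ0).ne' h1

theorem yLocus_eq_singleton (hd : IsCCS d) (F : Facet P) {y₁ : N} (hy₁ : y₁ ∈ yLocus d F) :
    yLocus d F = {y₁} := by
  obtain ⟨b, hb⟩ := Facet.cham_nonempty F
  ext y
  simp only [Set.mem_singleton_iff]
  constructor
  · intro hy
    have hz : y - y₁ ∈ Submodule.span R F.dualCarrier := Submodule.sub_mem _ hy.2 hy₁.2
    have := eq_zero_of_mem_span_dualCarrier F hz (fun m hm => by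
      have h1 := hy.1
      have h2 := hy₁.1
      simp only [Set.mem_iInter, hyper, Set.mem_ofPred_eq] at h1 h2
      rw [map_sub, h1 m hm b (corners_subset_baseCorners hb hm),
        h2 m hm b (corners_subset_baseCorners hb hm), sub_self])
    exact sub_eq_zero.mp this
  · rintro rfl; exact hy₁

lemma mem_yLocus_of_special (hd : IsCCS d) (F : Facet P) {y₁ : N}
    (hy₁ : y₁ ∈ F.dualCarrier ∩ dualSolid d F) : y₁ ∈ yLocus d F :=
  ⟨(dualSolid_subset hd F hy₁.2).1, Submodule.subset_span hy₁.1⟩

theorem exists_yLocus_eq_and_inter_eq (hd : IsCCS d) (F : Facet P) (hF : IsSpecial d F) :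
    ∃ y₀ : N, yLocus d F = {y₀} ∧ F.dualCarrier ∩ dualSolid d F = {y₀} := by
  obtain ⟨y₁, hy₁⟩ := hF
  have h1 := yLocus_eq_singleton hd F (mem_yLocus_of_special hd F hy₁)
  refine ⟨y₁, h1, ?_⟩
  ext y
  simp only [Set.mem_singleton_iff]
  constructor
  · intro hy
    have := mem_yLocus_of_special hd F hy
    rw [h1] at this
    exact this
  · rintro rfl; exact hy₁

end Groth.Agent.Lib.Helper4.RootCh
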