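import Groth.Agent.Lib.Helper4.RootCh.Psi

set_option autoImplicit false
set_option linter.unusedSectionVars false
set_option linter.unusedVariables false

open Module RootCh

namespace Groth.Agent.Lib.Helper4.RootCh

variable {ι R M N : Type*} [Field R] [LinearOrder R] [IsStrictOrderedRing R]
  [AddCommGroup M] [Module R M] [AddCommGroup N] [Module R N]
  {P : RootPairing ι R M N} [P.IsRootSystem] [Finite ι] [P.IsCrystallographic] [P.IsReduced]
  {d : P.Base → N}

omit [Finite ι] [P.IsCrystallographic] [P.IsReduced] [P.IsRootSystem] in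
lemma root'_eq_zero_of_mem_span_dualCarrier {F : Facet P} {j : ι} (hj : F.sgn j = 0) {y : N}
    (hy : y ∈ Submodule.span R F.dualCarrier) : P.root' j y = 0 := by
  have : Submodule.span R F.dualCarrier ≤ LinearMap.ker (P.root' j) := by
    rw [Submodule.span_le]
    intro x hx
    have hx' : cosgnVec P x = F.sgn := hx
    have := congrFun hx' j
    rw [hj] at this
    exact sign_eq_zero_iff.mp this
  exact this hy

lemma root'_eq_of_mem_Psi {F : Facet P} {b : P.Base} (hb : b ∈ F.cham) (j₀ : b.support) {k : ι}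
    (hk : k ∈ F.Psi (fundWeight b j₀)) {y : N} (hy : y ∈ Submodule.span R F.dualCarrier) :
    P.root' k y = P.root' j₀ y := by
  classical
  rw [mem_Psi_iff hb] at hk
  have h := pair_eq_sum' b (P.root k) y
  rw [Finset.sum_eq_single j₀] at h
  · rw [show P.root' k y = P.toLinearMap (P.root k) y from rfl, h]
    have : P.toLinearMap (P.root k) (fundCoweight b j₀) = 1 := hk.1
    rw [this, one_mul]
  · intro j _ hj
    rcases sgn_simple_eq_zero_or_one hb j with h0 | h1
    · rw [root'_eq_zero_of_mem_span_dualCarrier h0 hy, mul_zero]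
    · have : P.toLinearMap (P.root k) (fundCoweight b j) = 0 := hk.2 j h1 hj
      rw [this, zero_mul]
  · intro h'; exact absurd (Finset.mem_univ _) h'

lemma self_mem_Psi {F : Facet P} {b : P.Base} (hb : b ∈ F.cham) (j₀ : b.support) :
    (j₀ : ι) ∈ F.Psi (fundWeight b j₀) := by
  rw [mem_Psi_iff hb]
  exact ⟨root'_fundCoweight_self b j₀, fun j _ hj => root'_fundCoweight_of_ne b j j₀ (Ne.symm hj)⟩

lemma numInv_eq_card_mul (hd : IsCCS d) {F : Facet P} {b : P.Base} (hb : b ∈ F.cham)
    (j₀ : b.support) (hj₀ : F.sgn j₀ = 1) {y : N} (hy1 : y ∈ dualSolid d F)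
    (hy2 : y ∈ Submodule.span R F.dualCarrier) :
    F.numInv d (fundWeight b j₀) b =
      ((Set.toFinite (F.Psi (fundWeight b j₀))).toFinset.card : R) * P.root' j₀ y := by
  have hm : fundWeight b j₀ ∈ F.corners := (fundWeight_mem_corners_iff hb j₀).mpr hj₀
  rw [numInv_eq_pair]
  have h1 : P.toLinearMap (sigmaPsi F (fundWeight b j₀)) (d b) =
      P.toLinearMap (sigmaPsi F (fundWeight b j₀)) y := by
    apply pair_eq_of_mem_span (S := F.corners) _ (sum_root_psi_mem_span_corners F _ hm)
    intro m hm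
    have := (dualSolid_subset hd F hy1).1
    simp only [Set.mem_iInter, hyper, Set.mem_ofPred_eq] at this
    exact (this m hm b (corners_subset_baseCorners hb hm)).symm
  rw [h1, sigmaPsi, map_sum, LinearMap.sum_apply]
  rw [Finset.sum_congr rfl (fun k hk => root'_eq_of_mem_Psi hb j₀
    ((Set.Finite.mem_toFinset _).mp hk) hy2), Finset.sum_const, nsmul_eq_mul]

lemma card_Psi_pos {F : Facet P} {b : P.Base} (hb : b ∈ F.cham) (j₀ : b.support) :
    (0 : R) < ((Set.toFinite (F.Psi (fundWeight b j₀))).toFinset.card : R) := by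
  rw [Nat.cast_pos, Finset.card_pos]
  exact ⟨j₀, (Set.Finite.mem_toFinset _).mpr (self_mem_Psi hb j₀)⟩

theorem numInv_pos_and_meets_iff_isSpecial (hd : IsCCS d) (F : Facet P) :
    ((∀ m ∈ F.corners, ∀ b ∈ F.cham, 0 < F.numInv d m b) ∧
        (dualSolid d F ∩ (Submodule.span R F.dualCarrier : Set N)).Nonempty) ↔
      IsSpecial d F := by
  constructor
  · rintro ⟨h1, y, hy1, hy2⟩
    obtain ⟨b, hb⟩ := Facet.cham_nonempty F
    refine ⟨y, ?_, hy1⟩
    rw [mem_dualCarrier_iff hb]
    intro j
    rcases sgn_simple_eq_zero_or_one hb j with h0 | hj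
    · rw [h0, root'_eq_zero_of_mem_span_dualCarrier h0 hy2, sign_zero]
    · rw [hj]
      apply sign_pos
      have h2 := h1 _ ((fundWeight_mem_corners_iff hb j).mpr hj) b hb
      rw [numInv_eq_card_mul hd hb j hj hy1 hy2] at h2
      exact (pos_iff_pos_of_mul_pos h2).mp (card_Psi_pos hb j)
  · rintro ⟨y, hy1, hy2⟩
    have hy3 : y ∈ Submodule.span R F.dualCarrier := Submodule.subset_span hy1
    refine ⟨fun m hm b hb => ?_, ⟨y, hy2, hy3⟩⟩
    have hm' := hm
    rw [corners_eq hb] at hm'
    obtain ⟨j₀, hj₀, rfl⟩ := hm'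
    rw [numInv_eq_card_mul hd hb j₀ hj₀ hy2 hy3]
    apply mul_pos (card_Psi_pos hb j₀)
    have := (mem_dualCarrier_iff hb y).mp hy1 j₀
    rw [hj₀, sign_eq_one_iff] at this
    exact this

end Groth.Agent.Lib.Helper4.RootCh
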