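import Groth.Agent.Lib.Helper4.RootCh.MaxSpecial

set_option autoImplicit false
set_option linter.unusedSectionVars false
set_option linter.unusedVariables false

open Module RootCh

namespace Groth.Agent.Lib.Helper4.RootCh

variable {ι R M N : Type*} [Field R] [LinearOrder R] [IsStrictOrderedRing R]
  [AddCommGroup M] [Module R M] [AddCommGroup N] [Module R N]
  {P : RootPairing ι R M N} [P.IsRootSystem] [Finite ι] [P.IsCrystallographic] [P.IsReduced]
  {d : P.Base → N}

omit [P.IsRootSystem] [P.IsCrystallographic] [P.IsReduced] in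
instance : Finite (Facet P) :=
  Finite.of_injective (fun F : Facet P => F.sgn) fun _ _ h => Facet.ext h

theorem existsUnique_isSpecial (hd : IsCCS d) : ∃! F : Facet P, IsSpecial d F := by
  classical
  -- existence
  have hex : ∃ F : Facet P, IsSpecial d F := by
    let T : Set (Facet P × P.Base) := {p | p.2 ∈ p.1.cham}
    have hTne : T.Nonempty := by
      obtain ⟨b, hb⟩ := Facet.cham_nonempty (Facet.origin P)
      exact ⟨(Facet.origin P, b), hb⟩
    obtain ⟨p₀, hp₀, hp₀max⟩ := Set.Finite.exists_maximalFor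
      (fun p : Facet P × P.Base => p.1.deg d p.2) T (Set.toFinite T) hTne
    have hmax0 : ∀ (G : Facet P) (c : P.Base), c ∈ G.cham → G.deg d c ≤ p₀.1.deg d p₀.2 := by
      intro G c hc
      rcases le_total (p₀.1.deg d p₀.2) (G.deg d c) with h | h
      · exact hp₀max (show (G, c) ∈ T from hc) h
      · exact h
    let S : Set (Facet P) := {G | ∃ c ∈ G.cham, G.deg d c = p₀.1.deg d p₀.2}
    have hSne : S.Nonempty := ⟨p₀.1, p₀.2, hp₀, rfl⟩
    obtain ⟨F, ⟨b, hb, hFdeg⟩, hFmax⟩ := Set.Finite.exists_maximal (Set.toFinite S) hSne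
    refine ⟨F, isSpecial_of_maximal hd F b hb ?_ ?_⟩
    · intro G c hc; rw [hFdeg]; exact hmax0 G c hc
    · intro G c hc he hle
      have hGS : G ∈ S := ⟨c, hc, he.trans hFdeg⟩
      exact le_antisymm (hFmax hGS hle) hle
  obtain ⟨F, hF⟩ := hex
  refine ⟨F, hF, fun G hG => ?_⟩
  obtain ⟨b, hb⟩ := Facet.cham_nonempty F
  obtain ⟨c, hc⟩ := Facet.cham_nonempty G
  have h1 := isGreatest_of_isSpecial hd F b hb hF
  have h2 := isGreatest_of_isSpecial hd G c hc hG
  have he : G.deg d c = F.deg d b := le_antisymm (h1.1 G c hc) (h2.1 F b hb)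
  exact le_antisymm (h1.2 G c hc he) (h2.2 F b hb he.symm)

end Groth.Agent.Lib.Helper4.RootCh
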